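import Cfsg.Agent.GWDihedral.Tops.Data
import Cfsg.Agent.SolvStruct.AltAut

/-!
The top `A₇`.
-/

set_option autoImplicit false
set_option linter.unusedSectionVars false
set_option linter.style.haveILetI false

namespace Cfsg.Lib.GWD

open Subgroup Cfsg.Lib.GenDihedral
open Equiv (Perm swap)
open scoped commutatorElement

universe u

namespace AltSeven

/-- A double transposition of four points. -/
def w4 : Perm (Fin 4) := swap 0 1 * swap 2 3

/-- The same on seven points. -/
def v0 : Perm (Fin 7) := swap 0 1 * swap 2 3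

/-- Seven points as four and three. -/
abbrev e7 : Fin 4 ⊕ Fin 3 ≃ Fin 7 := finSumFinEquiv

/-- Permutations of the first four and of the last three of seven points. -/
def ψ : Perm (Fin 4) × Perm (Fin 3) →* Perm (Fin 7) :=
  e7.permCongrHom.toMonoidHom.comp (Equiv.Perm.sumCongrHom (Fin 4) (Fin 3))

theorem ψ_inl (x : Perm (Fin 4) × Perm (Fin 3)) (i : Fin 4) :
    ψ x (e7 (Sum.inl i)) = e7 (Sum.inl (x.1 i)) := by
  simp [ψ, Equiv.permCongrHom, Equiv.permCongr_apply]

theorem ψ_inr (x : Perm (Fin 4) × Perm (Fin 3)) (i : Fin 3) :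
    ψ x (e7 (Sum.inr i)) = e7 (Sum.inr (x.2 i)) := by
  simp [ψ, Equiv.permCongrHom, Equiv.permCongr_apply]

theorem ψ_inj : Function.Injective ψ :=
  e7.permCongrHom.injective.comp Equiv.Perm.sumCongrHom_injective

theorem ψ_sign (x : Perm (Fin 4) × Perm (Fin 3)) : Perm.sign (ψ x) = Perm.sign x.1 * Perm.sign x.2 := by
  show Perm.sign (e7.permCongr (Equiv.sumCongr x.1 x.2)) = _
  rw [Perm.sign_permCongr, Perm.sign_sumCongr]

theorem v0_eq : ψ (w4, 1) = v0 := by unfold ψ w4 v0; decide +kernel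

theorem mem_range {p : Perm (Fin 7)} (h : ∀ i : Fin 4, ∃ j : Fin 4, p (e7 (Sum.inl i)) = e7 (Sum.inl j)) :
    ∃ x, ψ x = p := by
  set q := e7.symm.permCongr p with hq
  obtain ⟨x, hx⟩ : q ∈ (Equiv.Perm.sumCongrHom (Fin 4) (Fin 3)).range := by
    refine Perm.mem_sumCongrHom_range_of_perm_mapsTo_inl ?_
    rintro _ ⟨i, rfl⟩
    obtain ⟨j, hj⟩ := h i
    exact ⟨j, by rw [hq, Equiv.permCongr_apply, Equiv.symm_symm, hj, Equiv.symm_apply_apply]⟩
  refine ⟨x, ?_⟩
  show e7.permCongr (Equiv.Perm.sumCongrHom (Fin 4) (Fin 3) x) = p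
  rw [hx, hq]
  ext i
  simp [Equiv.permCongr_apply]

theorem cent_v0 {p : Perm (Fin 7)} (h : p * v0 = v0 * p) :
    ∃ x : Perm (Fin 4) × Perm (Fin 3), ψ x = p ∧ x.1 * w4 = w4 * x.1 := by
  have hsplit : ∀ i : Fin 7, v0 i ≠ i → ∃ j : Fin 4, i = e7 (Sum.inl j) := by
    unfold v0; decide +kernel
  have hmove : ∀ j : Fin 4, v0 (e7 (Sum.inl j)) ≠ e7 (Sum.inl j) := by
    unfold v0; decide +kernel
  obtain ⟨x, rfl⟩ := mem_range (p := p) fun i => hsplit _ (fun e => hmove i (p.injective (by
    rw [← Perm.mul_apply, h, Perm.mul_apply, e])))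
  refine ⟨x, rfl, ?_⟩
  rw [← v0_eq, ← map_mul, ← map_mul, ψ_inj.eq_iff] at h
  exact congrArg Prod.fst h

theorem dec_pow : ∀ f : Perm (Fin 4), f * w4 = w4 * f → f ^ 8 = 1 := by unfold w4; decide +kernel

theorem dec_three : ∀ g : Perm (Fin 3), g ^ 6 = 1 ∧
    (g ^ 3 = 1 → g = 1 ∨ g = finRotate 3 ∨ g = (finRotate 3)⁻¹) := by decide +kernel

set_option synthInstance.maxSize 20000 in
set_option synthInstance.maxHeartbeats 400000 in
theorem dec_swap : ∀ f : Perm (Fin 4), ∀ g : Perm (Fin 3), f * w4 = w4 * f → f * f = 1 → g * g = 1 →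
    Perm.sign f * Perm.sign g = 1 → (f ≠ 1 ∨ g ≠ 1) → (f ≠ w4 ∨ g ≠ 1) →
    ∃ h : Perm (Fin 4), ∃ k : Perm (Fin 3), h * w4 = w4 * h ∧ Perm.sign h * Perm.sign k = 1 ∧
      h * f * h⁻¹ = w4 * f ∧ k * g * k⁻¹ = g := by
  unfold w4; decide +kernel

theorem dec_free : ∀ f : Perm (Fin 4), (∀ i, f i ≠ i) → f * f = 1 → f * w4 = w4 * f := by
  unfold w4; decide +kernel

/-- The three-cycle fixing the support of `v0`. -/
def c0 : Perm (Fin 7) := ψ (1, finRotate 3)

theorem tor0 {p : Perm (Fin 7)} (ho : Odd (orderOf p)) (h : p * v0 = v0 * p) :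
    p = 1 ∨ p = c0 ∨ p = c0⁻¹ := by
  obtain ⟨⟨f, g⟩, rfl, hf⟩ := cent_v0 h
  obtain ⟨hg6, hg3⟩ := dec_three g
  have hN : orderOf (ψ (f, g)) ∣ 3 := by
    have h24 : orderOf (ψ (f, g)) ∣ 8 * 3 := by
      refine orderOf_dvd_of_pow_eq_one ?_
      rw [← map_pow, Prod.pow_mk, pow_mul, dec_pow f hf, one_pow, show 8 * 3 = 6 * 4 from rfl, pow_mul, hg6,
        one_pow]
      exact map_one ψ
    exact (Nat.Coprime.pow_right 3 (Nat.coprime_two_right.2 ho)).dvd_of_dvd_mul_left h24
  have h3 := orderOf_dvd_iff_pow_eq_one.1 hN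
  rw [← map_pow, Prod.pow_mk, map_eq_one_iff ψ ψ_inj, Prod.mk_eq_one] at h3
  have hf1 : f = 1 := by
    have : f ^ 8 = 1 := dec_pow f hf
    calc f = (f ^ 3) ^ 3 * (f ^ 8)⁻¹ := by group
      _ = 1 := by rw [h3.1, this, one_pow, inv_one, mul_one]
  subst hf1
  rcases hg3 h3.2 with rfl | rfl | rfl
  · exact Or.inl (map_one ψ)
  · exact Or.inr (Or.inl rfl)
  · exact Or.inr (Or.inr (by rw [c0, ← map_inv, Prod.inv_mk, inv_one]))

theorem comm0 {p : Perm (Fin 7)} (h2 : p * p = 1) (hfix : ∀ i, p i = i ↔ v0 i = i) : p * v0 = v0 * p := by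
  have hmove : ∀ j : Fin 4, v0 (e7 (Sum.inl j)) ≠ e7 (Sum.inl j) := by
    unfold v0; decide +kernel
  have hsplit : ∀ i : Fin 7, v0 i ≠ i → ∃ j : Fin 4, i = e7 (Sum.inl j) := by
    unfold v0; decide +kernel
  have hfix0 : ∀ j : Fin 3, v0 (e7 (Sum.inr j)) = e7 (Sum.inr j) := by
    unfold v0; decide +kernel
  obtain ⟨⟨f, g⟩, rfl⟩ := mem_range (p := p) fun i => hsplit _ (fun e => by
    have h1 : p (p (e7 (Sum.inl i))) = p (e7 (Sum.inl i)) := (hfix _).2 e
    exact hmove i ((hfix _).1 (p.injective h1)))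
  have hg : g = 1 := Equiv.ext fun j => by
    have h1 := (hfix _).2 (hfix0 j)
    rw [ψ_inr] at h1
    exact Sum.inr_injective (e7.injective h1)
  subst hg
  rw [← map_mul, map_eq_one_iff ψ ψ_inj, Prod.mk_mul_mk, Prod.mk_eq_one] at h2
  have hfw := dec_free f (fun i e => hmove i ((hfix _).1 (by rw [ψ_inl, e]))) h2.1
  rw [← v0_eq, ← map_mul, ← map_mul, Prod.mk_mul_mk, Prod.mk_mul_mk, hfw]

/-- The involutions of `A₇` are conjugate to `v0` in `A₇`. -/
theorem exists_conj {v : Perm (Fin 7)} (h2 : orderOf v = 2) (hs : Perm.sign v = 1) :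
    ∃ g : Perm (Fin 7), Perm.sign g = 1 ∧ g * v0 * g⁻¹ = v := by
  have key : ∀ p : Perm (Fin 7), orderOf p = 2 → Perm.sign p = 1 → p.cycleType = Multiset.replicate 2 2 := by
    intro p hp hps
    obtain ⟨n, hn⟩ := Perm.cycleType_prime_order (σ := p) (by rw [hp]; exact Nat.prime_two)
    rw [hp] at hn
    have hle : p.cycleType.sum ≤ 7 := by
      rw [Perm.sum_cycleType]
      exact (Finset.card_le_univ _).trans (by simp)
    rw [hn, Multiset.sum_replicate, smul_eq_mul] at hle
    rw [Perm.sign_of_cycleType, hn, Multiset.sum_replicate, Multiset.card_replicate, smul_eq_mul] at hps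
    have hn2 : n ≤ 2 := by omega
    interval_cases n
    · exact absurd hps (by decide)
    · exact hn
    · exact absurd hps (by decide)
  have h0 : orderOf v0 = 2 := orderOf_eq_prime (by unfold v0; decide +kernel) (by unfold v0; decide +kernel)
  have hs0 : Perm.sign v0 = 1 := by unfold v0; decide +kernel
  obtain ⟨g, hg⟩ := isConj_iff.1 ((Perm.isConj_iff_cycleType_eq).2 ((key v0 h0 hs0).trans (key v h2 hs).symm))
  rcases Int.units_eq_one_or (Perm.sign g) with hsg | hsg
  · exact ⟨g, hsg, hg⟩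
  · refine ⟨g * swap 0 1, ?_, ?_⟩
    · rw [map_mul, hsg, Perm.sign_swap (by decide)]; decide
    · have hc : swap 0 1 * v0 * (swap 0 1)⁻¹ = v0 := by unfold v0; decide +kernel
      calc g * swap 0 1 * v0 * (g * swap 0 1)⁻¹ = g * (swap 0 1 * v0 * (swap 0 1)⁻¹) * g⁻¹ := by group
        _ = v := by rw [hc, hg]

theorem index_v0 : (centralizer ({v0} : Set (Perm (Fin 7)))).index = 105 := by
  have hc : v0.cycleType = Multiset.replicate 2 2 := by
    have hd : (swap (0 : Fin 7) 1).Disjoint (swap 2 3) := by unfold Perm.Disjoint; decide +kernel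
    rw [v0, hd.cycleType_mul, (Perm.isCycle_swap (by decide)).cycleType, (Perm.isCycle_swap (by decide)).cycleType,
      Perm.card_support_swap (by decide), Perm.card_support_swap (by decide)]
    rfl
  have h1 := Subgroup.card_mul_index (centralizer ({v0} : Set (Perm (Fin 7))))
  rw [Equiv.Perm.nat_card_centralizer, hc, Nat.card_perm, Nat.card_fin] at h1
  simp [Nat.factorial] at h1
  omega

end AltSeven

open AltSeven

variable {X : Type u} [Group X] [Finite X]

/-- A group mapping isomorphically onto `A₇` is a top. -/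
theorem topData_of_hom (φ : X →* Perm (Fin 7)) (hφ : Function.Injective φ) (hs : ∀ x, Perm.sign (φ x) = 1)
    (hsur : ∀ p, Perm.sign p = 1 → ∃ x, φ x = p) : TopData (⊤ : Subgroup X) := by
  have ho : ∀ x, orderOf (φ x) = orderOf x := fun x => orderOf_injective φ hφ x
  have hconj : ∀ v : X, orderOf v = 2 → ∃ k, φ (k⁻¹ * v * k) = v0 := by
    intro v hv
    obtain ⟨g, hg, h⟩ := exists_conj ((ho v).trans hv) (hs v)
    obtain ⟨k, rfl⟩ := hsur g hg
    exact ⟨k, by rw [map_mul, map_mul, map_inv, ← h]; group⟩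
  obtain ⟨z, hz⟩ := hsur v0 (by unfold v0; decide +kernel)
  have hz2 : orderOf z = 2 := by
    rw [← ho, hz]; exact orderOf_eq_prime (by unfold v0; decide +kernel) (by unfold v0; decide +kernel)
  have hconjz : ∀ v : X, orderOf v = 2 → ∃ k, k * z * k⁻¹ = v := fun v hv => by
    obtain ⟨k, hk⟩ := hconj v hv
    exact ⟨k, by rw [← hφ (hk.trans hz.symm)]; group⟩
  have hC : ∀ a b : X, orderOf a = 2 → orderOf b = 2 → a ∈ (⊤ : Subgroup X) → b ∈ (⊤ : Subgroup X) →
      ∃ l ∈ (⊤ : Subgroup X), l * a * l⁻¹ = b := fun a b ha hb _ _ => by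
    obtain ⟨k, rfl⟩ := hconjz a ha
    obtain ⟨l, rfl⟩ := hconjz b hb
    exact ⟨l * k⁻¹, mem_top _, by group⟩
  obtain ⟨c, hc⟩ := hsur c0 (by unfold c0; rw [ψ_sign]; decide +kernel)
  have hc3 : orderOf c = 3 := by
    haveI : Fact (Nat.Prime 3) := ⟨Nat.prime_three⟩
    rw [← ho, hc]
    exact orderOf_eq_prime (by unfold c0 ψ; decide +kernel) (by unfold c0 ψ; decide +kernel)
  have hcz : c * z = z * c := hφ (by rw [map_mul, map_mul, hc, hz]; unfold c0 ψ v0; decide +kernel)
  have hcfix : ∀ i, c0 i = i ↔ v0 i ≠ i := by unfold c0 ψ v0; decide +kernel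
  have hcfix' : ∀ i, c0⁻¹ i = i ↔ v0 i ≠ i := fun i => by
    rw [Perm.inv_eq_iff_eq, eq_comm]; exact hcfix i
  -- an involution centralising `z` and `c`
  obtain ⟨d0, hd0⟩ := hsur (swap 0 2 * swap 1 3) (by decide +kernel)
  have hd2 : orderOf d0 = 2 := by
    rw [← ho, hd0]; exact orderOf_eq_prime (by decide +kernel) (by decide +kernel)
  have hdz : d0 * z = z * d0 ∧ d0 * c = c * d0 :=
    ⟨hφ (by rw [map_mul, map_mul, hz, hd0]; unfold v0; decide +kernel),
      hφ (by rw [map_mul, map_mul, hc, hd0]; unfold c0 ψ; decide +kernel)⟩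
  have hdne : d0 ≠ z := fun e => by
    have := congrArg φ e
    rw [hd0, hz] at this
    revert this
    unfold v0
    decide +kernel
  -- the torus, with its points
  have htor : ∀ v : X, orderOf v = 2 → ∃ τ : X, orderOf τ = 3 ∧ τ * v = v * τ ∧
      (∀ a, Odd (orderOf a) → a * v = v * a → a ∈ zpowers τ ∧ (a ≠ 1 → ∀ i, φ a i = i ↔ φ v i ≠ i)) ∧
      ∃ d : X, orderOf d = 2 ∧ d ≠ v ∧ d * v = v * d ∧ d * τ = τ * d := by
    intro v hv
    obtain ⟨k, rfl⟩ := hconjz v hv
    refine ⟨k * c * k⁻¹, by rw [← MulAut.conj_apply, MulEquiv.orderOf_eq, hc3], ?_, fun a hao hav => ?_,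
      k * d0 * k⁻¹, by rw [← MulAut.conj_apply, MulEquiv.orderOf_eq, hd2],
      fun e => hdne ((MulAut.conj k).injective e), by rw [_root_.conj_mul, _root_.conj_mul, hdz.1],
      by rw [_root_.conj_mul, _root_.conj_mul, hdz.2]⟩
    · rw [_root_.conj_mul, _root_.conj_mul, hcz]
    have hb : φ (k⁻¹ * a * k) = 1 ∨ φ (k⁻¹ * a * k) = c0 ∨ φ (k⁻¹ * a * k) = c0⁻¹ := by
      refine tor0 ?_ ?_
      · rw [ho]
        rwa [show orderOf (k⁻¹ * a * k) = orderOf a by
          rw [show k⁻¹ * a * k = k⁻¹ * a * k⁻¹⁻¹ by group, ← MulAut.conj_apply, MulEquiv.orderOf_eq]]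
      · rw [← hz, ← map_mul, ← map_mul]
        congr 1
        calc k⁻¹ * a * k * z = k⁻¹ * (a * (k * z * k⁻¹)) * k := by group
          _ = k⁻¹ * (k * z * k⁻¹ * a) * k := by rw [hav]
          _ = z * (k⁻¹ * a * k) := by group
    have hpts : ∀ q : Perm (Fin 7), (∀ i, q i = i ↔ v0 i ≠ i) → φ (k⁻¹ * a * k) = q →
        ∀ i, φ a i = i ↔ φ (k * z * k⁻¹) i ≠ i := by
      intro q hq e i
      have h := hq ((φ k)⁻¹ i)
      rw [← e, ← hz] at h
      have hki : φ k ((φ k)⁻¹ i) = i := by rw [← Perm.mul_apply, mul_inv_cancel]; rfl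
      simp only [map_mul, map_inv, Perm.mul_apply, EmbeddingLike.apply_eq_iff_eq, hki] at h ⊢
      refine ⟨fun h1 h2 => h.1 h1 ((φ k).injective (by rw [h2, hki])), fun h1 => h.2 fun h2 => h1 ?_⟩
      rw [h2, hki]
    refine ⟨?_, fun ha1 => ?_⟩
    · have e : a = k * (k⁻¹ * a * k) * k⁻¹ := by group
      rw [e]
      rcases hb with h | h | h
      · rw [(map_eq_one_iff φ hφ).1 h, mul_one, mul_inv_cancel]; exact one_mem _
      · rw [hφ (h.trans hc.symm)]; exact mem_zpowers _
      · rw [show k⁻¹ * a * k = c⁻¹ from hφ (h.trans (by rw [map_inv, hc])), ← _root_.conj_inv]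
        exact inv_mem (mem_zpowers _)
    · rcases hb with h | h | h
      · refine absurd ?_ ha1
        have h' := (map_eq_one_iff φ hφ).1 h
        calc a = k * (k⁻¹ * a * k) * k⁻¹ := by group
          _ = 1 := by rw [h', mul_one, mul_inv_cancel]
      · exact hpts _ hcfix h
      · exact hpts _ hcfix' h
  have hidx : ∀ v : X, orderOf v = 2 → (centralizer ({v} : Set X)).index = 105 := by
    intro v hv
    obtain ⟨k, rfl⟩ := hconjz v hv
    obtain ⟨e⟩ : Nonempty (X ≃* alternatingGroup (Fin 7)) := ⟨MulEquiv.ofBijective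
      (φ.codRestrict (alternatingGroup (Fin 7)) fun x => Perm.mem_alternatingGroup.2 (hs x))
      ⟨fun x y h => hφ (congrArg Subtype.val h), fun p =>
        ⟨(hsur p (Perm.mem_alternatingGroup.1 p.2)).choose, Subtype.ext
          (hsur p (Perm.mem_alternatingGroup.1 p.2)).choose_spec⟩⟩⟩
    have ec : centralizer ({k * z * k⁻¹} : Set X) =
        (centralizer ({e (k * z * k⁻¹)} : Set (alternatingGroup (Fin 7)))).comap e.toMonoidHom := by
      ext y
      rw [GenDihedral.mem_cent, Subgroup.mem_comap, GenDihedral.mem_cent]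
      simp only [MulEquiv.coe_toMonoidHom, ← map_mul, e.injective.eq_iff]
    rw [ec, index_comap_of_surjective _ e.surjective]
    have h2 : orderOf (e (k * z * k⁻¹)) = 2 := by rw [MulEquiv.orderOf_eq, hv]
    have hA : ∀ a b : Perm (Fin 7), orderOf a = 2 → orderOf b = 2 → a ∈ alternatingGroup (Fin 7) →
        b ∈ alternatingGroup (Fin 7) → ∃ l ∈ alternatingGroup (Fin 7), l * a * l⁻¹ = b := by
      intro a b ha hb haA hbA
      obtain ⟨g, hg, rfl⟩ := exists_conj ha (Perm.mem_alternatingGroup.1 haA)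
      obtain ⟨g', hg', rfl⟩ := exists_conj hb (Perm.mem_alternatingGroup.1 hbA)
      exact ⟨g' * g⁻¹, Perm.mem_alternatingGroup.2 (by rw [map_mul, map_inv, hg, hg']; rfl), by group⟩
    obtain ⟨p, hp, he⟩ : ∃ (p : Perm (Fin 7)) (hp : p ∈ alternatingGroup (Fin 7)), e (k * z * k⁻¹) = ⟨p, hp⟩ :=
      ⟨_, (e (k * z * k⁻¹)).2, rfl⟩
    rw [he] at h2 ⊢
    rw [Subgroup.orderOf_mk] at h2
    rw [← index_cent_eq (X := Perm (Fin 7)) hp h2 hA]
    obtain ⟨g, -, rfl⟩ := exists_conj h2 (Perm.mem_alternatingGroup.1 hp)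
    have e2 : centralizer ({g * v0 * g⁻¹} : Set (Perm (Fin 7))) =
        (centralizer ({v0} : Set (Perm (Fin 7)))).map (MulAut.conj g).toMonoidHom := by
      ext y
      rw [Subgroup.mem_map_equiv, MulAut.conj_symm_apply, GenDihedral.mem_cent, GenDihedral.mem_cent]
      constructor
      · intro h
        calc g⁻¹ * y * g * v0 = g⁻¹ * (y * (g * v0 * g⁻¹)) * g := by group
          _ = v0 * (g⁻¹ * y * g) := by rw [h]; group
      · intro h
        calc y * (g * v0 * g⁻¹) = g * (g⁻¹ * y * g * v0) * g⁻¹ := by group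
          _ = g * v0 * g⁻¹ * y := by rw [h]; group
    rw [e2]
    exact (index_map_equiv _ (MulAut.conj g)).trans index_v0
  have hc3' : ∀ p : X, orderOf p = 2 → (Finset.univ.filter fun i => φ p i = i).card = 3 := by
    intro p hp
    obtain ⟨k, rfl⟩ := hconjz p hp
    have e : (Finset.univ.filter fun i => φ (k * z * k⁻¹) i = i) =
        (Finset.univ.filter fun i => v0 i = i).map (φ k).toEmbedding := by
      ext i
      rw [Finset.mem_map_equiv, Finset.mem_filter, Finset.mem_filter, map_mul, map_mul, map_inv, hz,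
        Perm.mul_apply, Perm.mul_apply]
      simp only [Finset.mem_univ, true_and]
      exact ⟨fun h => (φ k).eq_symm_apply.2 h, fun h => (φ k).eq_symm_apply.1 h⟩
    rw [e, Finset.card_map]
    unfold v0
    decide +kernel
  have hcard : Nat.card (⊤ : Subgroup X) = 2520 := by
    let f : X ≃* alternatingGroup (Fin 7) := MulEquiv.ofBijective
      (φ.codRestrict (alternatingGroup (Fin 7)) fun x => Perm.mem_alternatingGroup.2 (hs x))
      ⟨fun x y h => hφ (congrArg Subtype.val h), fun p =>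
        ⟨(hsur p (Perm.mem_alternatingGroup.1 p.2)).choose, Subtype.ext
          (hsur p (Perm.mem_alternatingGroup.1 p.2)).choose_spec⟩⟩
    haveI : Nontrivial (Fin 7) := Fin.nontrivial_iff_two_le.mpr (by norm_num)
    rw [card_top, Nat.card_congr f.toEquiv, nat_card_alternatingGroup, Nat.card_fin]
    decide +kernel
  -- a swap of the four-group fixing `a`
  have hswap : ∀ a b : X, orderOf a = 2 → orderOf b = 2 → a * b = b * a → a ≠ b →
      ∃ g : X, g * a * g⁻¹ = a ∧ g * b * g⁻¹ = a * b := by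
    intro a b ha hb hab hne
    obtain ⟨k, rfl⟩ := hconjz a ha
    obtain ⟨d, rfl⟩ : ∃ d, b = k * d * k⁻¹ := ⟨k⁻¹ * b * k, by group⟩
    rw [_root_.conj_mul, _root_.conj_mul] at hab
    have hzd : z * d = d * z := (MulAut.conj k).injective hab
    rw [← MulAut.conj_apply, MulEquiv.orderOf_eq] at hb
    obtain ⟨⟨f, g⟩, hfg, hfw⟩ := cent_v0 (p := φ d) (by rw [← hz, ← map_mul, ← map_mul, hzd])
    have hd2 : φ d * φ d = 1 := by rw [← map_mul, mul_self_of_two hb, map_one]
    rw [← hfg, ← map_mul, map_eq_one_iff ψ ψ_inj, Prod.mk_mul_mk, Prod.mk_eq_one] at hd2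
    have hsd := hs d
    rw [← hfg, ψ_sign] at hsd
    obtain ⟨h, l, hh, hhl, hf', hg'⟩ := dec_swap f g hfw hd2.1 hd2.2 hsd
      (by
        by_contra hn
        push Not at hn
        rw [hn.1, hn.2, Prod.mk_one_one, map_one, eq_comm, map_eq_one_iff φ hφ] at hfg
        rw [hfg, orderOf_one] at hb; omega)
      (by
        by_contra hn
        push Not at hn
        rw [hn.1, hn.2, v0_eq, ← hz] at hfg
        exact hne (by rw [hφ hfg]))
    obtain ⟨x, hx⟩ := hsur (ψ (h, l)) (by rw [ψ_sign]; exact hhl)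
    have h1 : x * z * x⁻¹ = z := hφ (by
      rw [map_mul, map_mul, map_inv, hx, hz, ← v0_eq, ← map_inv, ← map_mul, ← map_mul, Prod.mk_mul_mk,
        Prod.inv_mk, Prod.mk_mul_mk, hh, mul_inv_cancel_right, mul_one, mul_inv_cancel])
    have h2 : x * d * x⁻¹ = z * d := hφ (by
      rw [map_mul, map_mul, map_inv, hx, ← hfg, map_mul, hz, ← hfg, ← v0_eq, ← map_inv, ← map_mul, ← map_mul, ← map_mul,
        Prod.mk_mul_mk, Prod.inv_mk, Prod.mk_mul_mk, Prod.mk_mul_mk, hf', hg', one_mul])
    refine ⟨k * x * k⁻¹, ?_, ?_⟩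
    · calc k * x * k⁻¹ * (k * z * k⁻¹) * (k * x * k⁻¹)⁻¹ = k * (x * z * x⁻¹) * k⁻¹ := by group
        _ = _ := by rw [h1]
    · calc k * x * k⁻¹ * (k * d * k⁻¹) * (k * x * k⁻¹)⁻¹ = k * (x * d * x⁻¹) * k⁻¹ := by group
        _ = _ := by rw [h2, _root_.conj_mul]
  refine ⟨inferInstance, fun a b _ _ ha _ => absurd (mem_top a) ha, ?_, fun a b _ _ F4 => ?_, hC, fun t ht _ => ?_,
    fun t ht => ?_, fun t u w F4 Q ho' hQ => ?_⟩
  · obtain ⟨d, hd⟩ := hsur (swap 0 2 * swap 1 3) (by decide +kernel)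
    refine ⟨z, d, mem_top _, mem_top _, isFour_of_comm hz2 ?_ ?_ ?_⟩
    · rw [← ho, hd]; exact orderOf_eq_prime (by decide +kernel) (by decide +kernel)
    · exact hφ (by rw [map_mul, map_mul, hz, hd]; unfold v0; decide +kernel)
    · intro e
      have := congrArg φ e
      rw [hz, hd] at this
      revert this
      unfold v0
      decide +kernel
  · obtain ⟨g1, h1a, h1b⟩ := hswap a b F4.z2 F4.t2 F4.comm F4.ne_zt
    obtain ⟨g2, h2b, h2a⟩ := hswap b a F4.t2 F4.z2 F4.comm.symm F4.ne_zt.symm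
    refine ⟨g1 * g2, mem_top _, ?_, ?_⟩
    · rw [← conj_conj, h2a, ← _root_.conj_mul, h1b, h1a, F4.comm, mul_assoc, mul_self_of_two F4.z2, mul_one]
    · rw [← conj_conj, h2b, h1b]
  · obtain ⟨τ, hτ3, hτt, hgen, hd⟩ := htor t ht
    refine ⟨τ, mem_top _, hτt, by rw [hτ3]; decide, fun a _ hao hat => (hgen a hao hat).1, ?_, fun T hT => ?_,
      Or.inl ⟨hτ3, hidx t ht, hd.choose, hd.choose_spec.1, hd.choose_spec.2.1, hd.choose_spec.2.2.1, fun a hao hat => ?_⟩⟩
    · rw [hτ3, hidx t ht]; decide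
    · rw [hτ3] at hT
      have hfac : (2520 : ℕ).factorization 2 = 3 := by
        rw [show (2520 : ℕ) = 2 ^ 3 * 315 from rfl, Nat.factorization_mul (by norm_num) (by norm_num),
          Finsupp.add_apply, Nat.Prime.factorization_pow Nat.prime_two,
          Nat.factorization_eq_zero_of_not_dvd (by norm_num)]
        simp
      rcases (Nat.dvd_prime Nat.prime_three).1 hT with rfl | rfl
      · refine Or.inr ?_
        rw [hcard, hfac, hidx t ht]
        decide
      · exact Or.inl ⟨rfl, hidx t ht, by rw [hcard, hfac]⟩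
    · obtain ⟨i, hi⟩ := mem_zpowers_iff.1 (hgen a hao hat).1
      rw [← hi]
      exact ((show Commute hd.choose τ from hd.choose_spec.2.2.2).zpow_right i).eq
  · obtain ⟨τ, hτ3, hτt, hgen, -⟩ := htor t ht
    refine ⟨τ, mem_top _, hτt, by rw [hτ3]; decide, fun a _ hao hat => (hgen a hao hat).1, Or.inr ⟨hτ3, ?_⟩⟩
    rw [← card_top (G := X), hcard]
    decide
  -- an invariant subgroup of odd order is centralised by an involution of the four-group
  by_cases hQ0 : Q = ⊥
  · exact ⟨t, Or.inl rfl, by rw [hQ0]; exact bot_le⟩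
  haveI : Group.IsSolvable Q := solvable_of_odd ho'
  haveI : Nontrivial Q := (Subgroup.nontrivial_iff_ne_bot Q).2 hQ0
  obtain ⟨n, hn⟩ := (Group.isSolvable_def Q).1 ‹_›
  classical
  let m₀ := Nat.find (⟨n, hn⟩ : ∃ n, derivedSeries Q n = ⊥)
  have hk : derivedSeries Q m₀ = ⊥ := Nat.find_spec (⟨n, hn⟩ : ∃ n, derivedSeries Q n = ⊥)
  obtain ⟨m, hm⟩ : ∃ m, m₀ = m + 1 := by
    refine ⟨m₀ - 1, ?_⟩
    rcases Nat.eq_zero_or_pos m₀ with h | h
    · rw [h, derivedSeries_zero] at hk
      exact absurd hk top_ne_bot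
    · omega
  have hm0 : derivedSeries Q m ≠ ⊥ := Nat.find_min (⟨n, hn⟩ : ∃ n, derivedSeries Q n = ⊥) (by omega)
  set A := (derivedSeries Q m).map Q.subtype with hA
  have hAQ : A ≤ Q := map_subtype_le _
  have hAne : A ≠ ⊥ := by rwa [Ne, Subgroup.map_eq_bot_iff_of_injective _ Q.subtype_injective]
  have hAc : ∀ a ∈ A, ∀ b ∈ A, a * b = b * a := by
    rintro _ ⟨a, ha, rfl⟩ _ ⟨b, hb, rfl⟩
    have : ⁅a, b⁆ ∈ derivedSeries Q m₀ := by
      rw [hm, derivedSeries_succ]; exact commutator_mem_commutator ha hb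
    rw [hk, mem_bot, commutatorElement_eq_one_iff_mul_comm] at this
    exact congrArg Subtype.val this
  have hnA : normalizer (Q : Set X) ≤ normalizer (A : Set X) :=
    Cfsg.Lib.FourGW.normalizer_le_map_char' Q (derivedSeries Q m)
  have hAo : ∀ a ∈ A, Odd (orderOf a) := fun a ha => orderOf_odd ho' (hAQ ha)
  -- two involutions of the four-group with commuting elements of order three
  have hpair : ∀ v v' : X, orderOf v = 2 → orderOf v' = 2 → v * v' = v' * v → ∀ a ∈ A, ∀ b ∈ A, a * v = v * a →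
      b * v' = v' * b → a ≠ 1 → b ∈ zpowers a := by
    intro v v' hv hv' hvv a ha b hb hav hbv ha1
    by_cases hb1 : b = 1
    · exact hb1 ▸ one_mem _
    obtain ⟨τ, hτ3, -, hgv, -⟩ := htor v hv
    obtain ⟨τ', hτ3', -, hgv', -⟩ := htor v' hv'
    have pa := (hgv a (hAo a ha) hav).2 ha1
    have pb := (hgv' b (hAo b hb) hbv).2 hb1
    have hab := hAc a ha b hb
    have hgen : b * v = v * b → b ∈ zpowers a := by
      intro hbv'
      have h1 := (hgv b (hAo b hb) hbv').1
      have h2 := (hgv a (hAo a ha) hav).1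
      have e : zpowers a = zpowers τ := by
        haveI : Fact (Nat.Prime 3) := ⟨Nat.prime_three⟩
        refine Subgroup.eq_of_le_of_card_ge (zpowers_le.2 h2) ?_
        rw [Nat.card_zpowers, Nat.card_zpowers]
        have hd : orderOf a ∣ orderOf τ := by
          rw [← Nat.card_zpowers τ]; exact Subgroup.orderOf_dvd_natCard _ h2
        rw [hτ3] at hd ⊢
        rcases (Nat.dvd_prime Nat.prime_three).1 hd with h | h
        · exact absurd (orderOf_eq_one_iff.1 h) ha1
        · exact h.ge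
      rw [e]; exact h1
    refine hgen (hφ ?_)
    have hcv : φ v * φ v' = φ v' * φ v := by rw [← map_mul, ← map_mul, hvv]
    have hv2 : ∀ i, φ v (φ v i) = i := fun i => by
      rw [← Perm.mul_apply, ← map_mul, mul_self_of_two hv, map_one]; rfl
    have hv2' : ∀ i, φ v' (φ v' i) = i := fun i => by
      rw [← Perm.mul_apply, ← map_mul, mul_self_of_two hv', map_one]; rfl
    have hcab : φ a * φ b = φ b * φ a := by rw [← map_mul, ← map_mul, hab]
    -- `b` permutes the points moved by `a`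
    have hbm : ∀ i, φ v i = i → φ v (φ b i) = φ b i := fun i hi => by
      by_contra h
      have h1 := (pa (φ b i)).2 h
      rw [← Perm.mul_apply, hcab, Perm.mul_apply] at h1
      exact (pa i).1 ((φ b).injective h1) hi
    rw [map_mul, map_mul]
    refine Equiv.ext fun i => ?_
    rw [Perm.mul_apply, Perm.mul_apply]
    by_cases hall : ∀ i, φ v i = i → φ v' i = i
    · -- the two involutions fix the same points
      have heq : ∀ i, φ v i = i ↔ φ v' i = i := by
        have e := Finset.eq_of_subset_of_card_le (s := Finset.univ.filter fun i => φ v i = i)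
          (t := Finset.univ.filter fun i => φ v' i = i) (fun i hi => by simp at hi ⊢; exact hall i hi)
          (by rw [hc3' v hv, hc3' v' hv'])
        intro i
        simpa using Finset.ext_iff.1 e i
      by_cases hi : φ v i = i
      · rw [hi]; exact ((hbm i hi)).symm
      · have h1 : φ b i = i := (pb i).2 fun e => hi ((heq i).2 e)
        have h2 : φ b (φ v i) = φ v i := by
          refine (pb _).2 fun e => hi ?_
          have h3 := (heq _).2 e
          rw [hv2] at h3
          exact h3.symm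
        rw [h1, h2]
    · -- impossible: `v'` would permute the three fixed points of `v` without fixing one
      exfalso
      push Not at hall
      obtain ⟨i₀, hi₀, hi₀'⟩ := hall
      have hnofix : ∀ j, φ v j = j → φ v' j ≠ j := by
        intro j hj hj'
        -- the orbit of `b` at `j` lies in the points fixed by `v` and by `v'`
        have hb3 : φ b * φ b * φ b = 1 := by
          rw [← map_mul, ← map_mul, ← map_one φ]
          congr 1
          have h1 := (hgv' b (hAo b hb) hbv).1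
          have h2 : orderOf b ∣ 3 := hτ3' ▸ (Nat.card_zpowers τ' ▸ Subgroup.orderOf_dvd_natCard _ h1)
          rw [← pow_three']
          exact orderOf_dvd_iff_pow_eq_one.1 h2
        have hvb : ∀ x, φ v' x = x → φ v' (φ b x) = φ b x := fun x hx => by
          rw [← Perm.mul_apply, ← map_mul, ← hbv, map_mul, Perm.mul_apply, hx]
        have hj1 : φ b j ≠ j := fun e => (pb j).1 e hj'
        set j1 := φ b j with hj1d
        set j2 := φ b j1 with hj2d
        have hj3 : φ b j2 = j := by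
          rw [hj2d, hj1d]
          have := Perm.ext_iff.1 hb3 j
          simpa [Perm.mul_apply] using this
        have hj2 : j2 ≠ j1 := fun e => hj1 ((φ b).injective (e.trans hj1d))
        have hj2' : j2 ≠ j := fun e => hj1 (by rw [← hj3, e] at hj1d ⊢)
        have hfix3 : ∀ x, φ v' x = x → x = j ∨ x = j1 ∨ x = j2 := by
          intro x hx
          by_contra h
          push Not at h
          have hsub : ({j, j1, j2, x} : Finset (Fin 7)) ⊆ Finset.univ.filter fun i => φ v' i = i := by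
            intro y hy
            simp only [Finset.mem_insert, Finset.mem_singleton] at hy
            rw [Finset.mem_filter]
            refine ⟨Finset.mem_univ _, ?_⟩
            rcases hy with rfl | rfl | rfl | rfl
            exacts [hj', hvb _ hj', hvb _ (hvb _ hj'), hx]
          have := Finset.card_le_card hsub
          rw [hc3' v' hv'] at this
          simp [Ne.symm hj1, Ne.symm hj2, Ne.symm hj2', Ne.symm h.1, Ne.symm h.2.1, Ne.symm h.2.2] at this
        have hfv : φ v j1 = j1 := hbm j hj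
        have hfv2 : φ v j2 = j2 := hbm j1 hfv
        -- the fixed points of `v'` are among those of `v`, hence all of them
        obtain ⟨k, hk⟩ : ∃ k, φ v' k = k ∧ φ v k ≠ k ∨ φ v k = k ∧ φ v' k ≠ k := ⟨i₀, Or.inr ⟨hi₀, hi₀'⟩⟩
        rcases hk with ⟨hk1, hk2⟩ | ⟨hk1, hk2⟩
        · rcases hfix3 k hk1 with rfl | rfl | rfl
          exacts [hk2 hj, hk2 hfv, hk2 hfv2]
        · have hc3 : ({j, j1, j2, k} : Finset (Fin 7)).card = 4 := by
            have a1 : k ≠ j := fun e => hk2 (e ▸ hj')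
            have a2 : k ≠ j1 := fun e => hk2 (e ▸ hvb _ hj')
            have a3 : k ≠ j2 := fun e => hk2 (e ▸ hvb _ (hvb _ hj'))
            simp [Ne.symm hj1, Ne.symm hj2, Ne.symm hj2', Ne.symm a1, Ne.symm a2, Ne.symm a3]
          have hsub : ({j, j1, j2, k} : Finset (Fin 7)) ⊆ Finset.univ.filter fun i => φ v i = i := by
            intro y hy
            simp only [Finset.mem_insert, Finset.mem_singleton] at hy
            rw [Finset.mem_filter]
            refine ⟨Finset.mem_univ _, ?_⟩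
            rcases hy with rfl | rfl | rfl | rfl
            exacts [hj, hfv, hfv2, hk1]
          have := Finset.card_le_card hsub
          rw [hc3, hc3' v hv] at this
          omega
      -- an involution of a set of three points fixes one
      let P3 : Perm {i // φ v i = i} := (φ v').subtypePerm fun i => by
        constructor
        · intro h
          have h1 : φ v' (φ v i) = φ v' i := by
            rw [← Perm.mul_apply, ← hcv, Perm.mul_apply]; exact h
          exact (φ v').injective h1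
        · intro h
          rw [← Perm.mul_apply, hcv, Perm.mul_apply, h]
      have hc : ¬ 2 ∣ Fintype.card {i // φ v i = i} := by
        rw [Fintype.card_subtype, hc3' v hv]
        decide
      haveI : Fact (Nat.Prime 2) := ⟨Nat.prime_two⟩
      obtain ⟨⟨j, hj⟩, hjf⟩ := Perm.exists_fixed_point_of_prime (p := 2) (n := 1) hc (σ := P3)
        (Equiv.ext fun x => Subtype.ext (by rw [pow_one, pow_two, Perm.mul_apply]; exact hv2' x.1))
      exact hnofix j hj (congrArg Subtype.val hjf)
  -- a nontrivial element of `A` centralised by an involution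
  obtain ⟨x, hx, hx2, a, ha, hax, ha1⟩ : ∃ x, (x = t ∨ x = u ∨ x = w) ∧ orderOf x = 2 ∧
      ∃ a ∈ A, a * x = x * a ∧ a ≠ 1 := by
    obtain ⟨a, haA, hane⟩ := A.bot_or_exists_ne_one.resolve_left hAne
    have hconj' : ∀ v : X, orderOf v = 2 → v ∈ Vg t u →
        (∃ b ∈ A, b * v = v * b ∧ b ≠ 1) ∨ v * a * v⁻¹ = a⁻¹ := by
      intro v hv hvV
      have hva := (mem_normalizer_iff.1 (hnA (hQ hvV)) a).1 haA
      by_cases h1 : a * (v * a * v⁻¹) = 1
      · exact Or.inr (eq_inv_of_mul_eq_one_right h1)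
      · refine Or.inl ⟨_, mul_mem haA hva, conj_fix_iff.1 ?_, h1⟩
        rw [← _root_.conj_mul, conj_conj v v, mul_self_of_two hv, inv_one, one_mul, mul_one, hAc _ hva _ haA]
    rcases hconj' t F4.z2 (F4.mem_iff.2 (Or.inr (Or.inl rfl))) with h | h1
    · exact ⟨t, Or.inl rfl, F4.z2, h⟩
    rcases hconj' u F4.t2 (F4.mem_iff.2 (Or.inr (Or.inr (Or.inl rfl)))) with h | h2
    · exact ⟨u, Or.inr (Or.inl rfl), F4.t2, h⟩
    refine ⟨w, Or.inr (Or.inr rfl), F4.s2, a, haA, conj_fix_iff.1 ?_, hane⟩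
    rw [← F4.zt, ← conj_conj, h2, ← _root_.conj_inv, h1, inv_inv]
  have hxV : x ∈ Vg t u := by
    rcases hx with rfl | rfl | rfl
    · exact F4.mem_iff.2 (Or.inr (Or.inl rfl))
    · exact F4.mem_iff.2 (Or.inr (Or.inr (Or.inl rfl)))
    · exact F4.mem_iff.2 (Or.inr (Or.inr (Or.inr rfl)))
  have hVc : ∀ v ∈ Vg t u, x * v = v * x := by
    intro v hv
    have hc := F4.comm
    have hcl : IsMulCommutative ↥(Vg t u) := isMulCommutative_closure (by
      rintro y (rfl | rfl) y' (rfl | rfl)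
      exacts [rfl, hc, hc.symm, rfl])
    exact congrArg Subtype.val (hcl.is_comm.comm ⟨x, hxV⟩ ⟨v, hv⟩)
  -- every element of `A` is a power of `a`
  have hAgen : ∀ b ∈ A, b ∈ zpowers a := by
    intro b hb
    have hone : ∀ v ∈ Vg t u, orderOf v = 2 → b * (v * b * v⁻¹) ∈ zpowers a := by
      intro v hv hv2
      have hvb := (mem_normalizer_iff.1 (hnA (hQ hv)) b).1 hb
      refine hpair x v hx2 hv2 (hVc v hv) a ha _ (mul_mem hb hvb) hax (conj_fix_iff.1 ?_) ha1
      rw [← _root_.conj_mul, conj_conj v v, mul_self_of_two hv2, inv_one, one_mul, mul_one, hAc _ hvb _ hb]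
    have mt : t ∈ Vg t u := F4.mem_iff.2 (Or.inr (Or.inl rfl))
    have mu : u ∈ Vg t u := F4.mem_iff.2 (Or.inr (Or.inr (Or.inl rfl)))
    have mw : w ∈ Vg t u := F4.mem_iff.2 (Or.inr (Or.inr (Or.inr rfl)))
    set bt := t * b * t⁻¹ with hbt
    set bu := u * b * u⁻¹ with hbu
    set bw := w * b * w⁻¹ with hbw
    have htm : bt ∈ A := (mem_normalizer_iff.1 (hnA (hQ mt)) b).1 hb
    have hum : bu ∈ A := (mem_normalizer_iff.1 (hnA (hQ mu)) b).1 hb
    have hwm : bw ∈ A := (mem_normalizer_iff.1 (hnA (hQ mw)) b).1 hb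
    -- the product of the conjugates is fixed by `t`
    have hprod : b * bt * (bu * bw) ∈ zpowers a := by
      refine hpair x t hx2 F4.z2 (hVc t mt) a ha _ (mul_mem (mul_mem hb htm) (mul_mem hum hwm)) hax
        (conj_fix_iff.1 ?_) ha1
      have e1 : t * bt * t⁻¹ = b := by rw [hbt, conj_conj, mul_self_of_two F4.z2]; simp
      have e2 : t * bu * t⁻¹ = bw := by rw [hbu, hbw, conj_conj, F4.zt]
      have e3 : t * bw * t⁻¹ = bu := by
        rw [hbu, hbw, conj_conj, show t * w = u by rw [← F4.zt, ← mul_assoc, mul_self_of_two F4.z2, one_mul]]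
      rw [← _root_.conj_mul (a := b * bt) (c := bu * bw), ← _root_.conj_mul (a := b) (c := bt),
        ← _root_.conj_mul (a := bu) (c := bw), e1, e2, e3, ← hbt, hAc bt htm b hb, hAc bw hwm bu hum]
    have hsq : b * b ∈ zpowers a := by
      have h := mul_mem (mul_mem (hone t mt F4.z2) (mul_mem (hone u mu F4.t2) (hone w mw F4.s2))) (inv_mem hprod)
      rw [← hbt, ← hbu, ← hbw] at h
      have c1 : Commute bu b := hAc _ hum _ hb
      have c2 : Commute bt b := hAc _ htm _ hb
      have e : b * bt * (b * bu * (b * bw)) * (b * bt * (bu * bw))⁻¹ = b * b := by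
        have h2 : b * bt * (b * bu * (b * bw)) = b * b * (b * bt * (bu * bw)) := by
          calc b * bt * (b * bu * (b * bw)) = b * (bt * b) * (bu * b) * bw := by group
            _ = b * (b * bt) * (b * bu) * bw := by rw [c1.eq, c2.eq]
            _ = b * b * (bt * b) * bu * bw := by group
            _ = b * b * (b * bt) * bu * bw := by rw [c2.eq]
            _ = b * b * (b * bt * (bu * bw)) := by group
        rw [h2, mul_inv_cancel_right]
      rwa [e] at h
    exact Cfsg.Lib.GenDihedral.mem_of_sq (hAo b hb) hsq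
  refine ⟨x, hx, fun g hg => GenDihedral.mem_cent.2 ?_⟩
  -- `g` centralises `a`, hence fixes the points of `x`
  obtain ⟨τ, hτ3, -, hgx, -⟩ := htor x hx2
  have ha3 : orderOf a = 3 := by
    have hd : orderOf a ∣ 3 := hτ3 ▸ (Nat.card_zpowers τ ▸ Subgroup.orderOf_dvd_natCard _ (hgx a (hAo a ha) hax).1)
    exact ((Nat.dvd_prime Nat.prime_three).1 hd).resolve_left fun h => ha1 (orderOf_eq_one_iff.1 h)
  have hga : g * a * g⁻¹ = a := by
    have hm1 := hAgen _ ((mem_normalizer_iff.1 (hnA (Subgroup.le_normalizer hg)) a).1 ha)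
    obtain ⟨i, hi⟩ := mem_zpowers_iff.1 hm1
    rw [← zpow_mod_orderOf, ha3] at hi
    rcases (show i % (3 : ℕ) = 0 ∨ i % (3 : ℕ) = 1 ∨ i % (3 : ℕ) = 2 by omega) with h | h | h <;> rw [h] at hi
    · rw [zpow_zero] at hi
      exact absurd (conj_eq_one_iff.1 hi.symm) ha1
    · rw [zpow_one] at hi; exact hi.symm
    · exfalso
      have hinv : g * a * g⁻¹ = a⁻¹ := by
        rw [← hi]
        refine eq_inv_of_mul_eq_one_left ?_
        rw [show (2 : ℤ) = ((2 : ℕ) : ℤ) from rfl, zpow_natCast, ← pow_succ,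
          show 2 + 1 = orderOf a by omega, pow_orderOf_eq_one]
      have h2 : g * g * a * (g * g)⁻¹ = a := by rw [← conj_conj, hinv, ← _root_.conj_inv, hinv, inv_inv]
      obtain ⟨j, hj⟩ := orderOf_odd ho' hg
      have hgg : g = (g * g) ^ (j + 1) := by
        rw [← pow_two, ← pow_mul, show 2 * (j + 1) = orderOf g + 1 by omega, pow_succ, pow_orderOf_eq_one, one_mul]
      have hc : Commute g a := by
        rw [hgg]; exact (show Commute (g * g) a from mul_inv_eq_iff_eq_mul.1 h2).pow_left _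
      rw [hc.eq, mul_inv_cancel_right] at hinv
      exact ha1 (eq_one_of_sq_of_odd (mul_eq_one_iff_eq_inv.2 hinv) (hAo a ha))
  have px := (hgx a (hAo a ha) hax).2 ha1
  set y := g * x * g⁻¹ with hy
  have hy2 : orderOf y = 2 := by rw [hy, ← MulAut.conj_apply, MulEquiv.orderOf_eq, hx2]
  have hay : a * y = y * a := by rw [hy, ← hga, _root_.conj_mul, _root_.conj_mul, hax]
  obtain ⟨τy, -, -, hgy, -⟩ := htor y hy2
  have py := (hgy a (hAo a ha) hay).2 ha1
  have hxy : ∀ i, φ y i = i ↔ φ x i = i := fun i => not_iff_not.1 ((py i).symm.trans (px i))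
  have hcomm : x * y = y * x := by
    obtain ⟨k, hk⟩ := hconj x hx2
    have hfix : ∀ i, φ (k⁻¹ * y * k) i = i ↔ v0 i = i := fun i => by
      rw [← hk]
      simp only [map_mul, map_inv, Perm.mul_apply, Perm.inv_eq_iff_eq]
      exact hxy _
    have h1 := comm0 (by
      rw [← map_mul, show k⁻¹ * y * k * (k⁻¹ * y * k) = k⁻¹ * (y * y) * k by group, mul_self_of_two hy2]
      simp) hfix
    rw [← hk, ← map_mul, ← map_mul] at h1
    have h2 := hφ h1
    calc x * y = k * (k⁻¹ * x * k * (k⁻¹ * y * k)) * k⁻¹ := by group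
      _ = k * (k⁻¹ * y * k * (k⁻¹ * x * k)) * k⁻¹ := by rw [h2]
      _ = y * x := by group
  have hmem : y * x ∈ Q := by
    rw [hy, show g * x * g⁻¹ * x = g * (x * g⁻¹ * x⁻¹) by rw [inv_of_two hx2]; group]
    exact mul_mem hg ((mem_normalizer_iff.1 (hQ hxV) _).1 (inv_mem hg))
  have h1 : y * x = 1 := eq_one_of_sq_of_odd (by
    calc y * x * (y * x) = y * (x * y) * x := by group
      _ = 1 := by rw [hcomm, ← mul_assoc y y x, mul_self_of_two hy2, one_mul, mul_self_of_two hx2])
    (orderOf_odd ho' hmem)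
  refine mul_inv_eq_iff_eq_mul.1 ?_
  rw [← hy, eq_inv_of_mul_eq_one_left h1, inv_of_two hx2]

/-- A normal self-centralising `A₇` in a group of 2-rank two is everything, and a top. -/
theorem topData_of_alt {L : Subgroup X} [L.Normal] (e : L ≃* alternatingGroup (Fin 7))
    (hC : centralizer (L : Set X) = ⊥) (hr : RankTwo X) : L = ⊤ ∧ TopData (⊤ : Subgroup X) := by
  set ι : Perm (Fin 7) ≃* MulAut ↥(alternatingGroup (Fin 7)) :=
    MulEquiv.ofBijective _ (Cfsg.Lib.SolvStruct.AltAut.conjNormal_bijective (n := 7) (by norm_num) (by norm_num))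
  set θ : X →* MulAut ↥(alternatingGroup (Fin 7)) := (MulAut.congr e).toMonoidHom.comp MulAut.conjNormal with hθ
  set φ : X →* Perm (Fin 7) := ι.symm.toMonoidHom.comp θ with hφd
  have hθi : Function.Injective θ := by
    rw [injective_iff_map_eq_one]
    intro g hg
    rw [← Subgroup.mem_bot, ← hC]
    refine mem_centralizer_iff.2 fun x hx => ?_
    have h := MulEquiv.ext_iff.1 hg (e ⟨x, hx⟩)
    change e (MulAut.conjNormal g (e.symm (e ⟨x, hx⟩))) = e ⟨x, hx⟩ at h
    rw [e.symm_apply_apply] at h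
    have h1 := congrArg Subtype.val (e.injective h)
    rw [MulAut.conjNormal_apply] at h1
    exact (mul_inv_eq_iff_eq_mul.1 h1).symm
  have hφi : Function.Injective φ := ι.symm.injective.comp hθi
  have hL : ∀ l : L, φ l = (e l : Perm (Fin 7)) := by
    intro l
    apply ι.injective
    show ι (ι.symm (θ l)) = _
    rw [ι.apply_symm_apply]
    refine MulEquiv.ext fun m => ?_
    refine Subtype.ext ?_
    show ((e (MulAut.conjNormal (l : X) (e.symm m))) : Perm (Fin 7)) = _
    rw [show MulAut.conjNormal (l : X) (e.symm m) = l * e.symm m * l⁻¹ from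
      Subtype.ext (by simp [MulAut.conjNormal_apply]), map_mul, map_mul, map_inv, e.apply_symm_apply]
    simp [ι, MulAut.conjNormal_apply]
  have hsurA : ∀ p, Perm.sign p = 1 → ∃ x : X, x ∈ L ∧ φ x = p := fun p hp =>
    ⟨(e.symm ⟨p, Perm.mem_alternatingGroup.2 hp⟩ : L), (e.symm _).2, by rw [hL, e.apply_symm_apply]⟩
  have hs : ∀ x, Perm.sign (φ x) = 1 := by
    intro x
    by_contra hne
    have hsur : ∀ p, ∃ y, φ y = p := by
      intro p
      rcases Int.units_eq_one_or (Perm.sign p) with hp | hp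
      · obtain ⟨y, -, hy⟩ := hsurA p hp
        exact ⟨y, hy⟩
      · obtain ⟨y, -, hy⟩ := hsurA (p * φ x) (by
          rw [map_mul, hp, (Int.units_eq_one_or _).resolve_left hne]; decide)
        exact ⟨y * x⁻¹, by rw [map_mul, map_inv, hy, mul_inv_cancel_right]⟩
    obtain ⟨a, ha⟩ := hsur (swap 0 1)
    obtain ⟨b, hb⟩ := hsur (swap 2 3)
    obtain ⟨c, hc⟩ := hsur (swap 4 5)
    have := hr a b c
    simp only [← hφi.eq_iff (a := a * a), ← hφi.eq_iff (a := b * b), ← hφi.eq_iff (a := c * c),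
      ← hφi.eq_iff (a := a * b), ← hφi.eq_iff (a := a * c), ← hφi.eq_iff (a := b * c), ← hφi.eq_iff (a := a),
      ← hφi.eq_iff (a := b), ← hφi.eq_iff (a := c), map_mul, map_one, ha, hb, hc] at this
    rcases this (by decide +kernel) (by decide +kernel) (by decide +kernel) (by decide +kernel)
      (by decide +kernel) (by decide +kernel) with h | h | h | h | h | h | h <;> revert h <;> decide +kernel
  have htop : L = ⊤ := eq_top_iff.2 fun x _ => by
    obtain ⟨y, hy, e'⟩ := hsurA (φ x) (hs x)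
    exact hφi e' ▸ hy
  exact ⟨htop, topData_of_hom φ hφi hs fun p hp => ⟨(hsurA p hp).choose, (hsurA p hp).choose_spec.2⟩⟩

end Cfsg.Lib.GWD
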