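import Cfsg.Agent.GWDihedral.Tops.Data
import Cfsg.Agent.GenDihedral.Four.L2Psl

/-!
`PSL(2, q)`, `q` odd: rotations of the four-groups, the count of involutions, and the resulting top.
-/

set_option autoImplicit false
set_option linter.unusedSectionVars false
set_option linter.style.haveILetI false

namespace Cfsg.Lib.GWD

open Subgroup Matrix Cfsg.Lib.GenDihedral Cfsg.Lib.Classical
open scoped MatrixGroups

universe u

variable {F : Type} [Field F] [Fintype F]

local notation "P2" => Matrix.ProjectiveSpecialLinearGroup (Fin 2) F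
local notation "π" => (PSLFour.π (F := F))

/-- The element `(1 + g + h + g h) / 2` rotates an anticommuting pair. -/
theorem exists_hurwitz (hodd : Odd (Fintype.card F)) {g h : SL(2, F)} (hp : PSLFour.IsPair g h) :
    ∃ w : SL(2, F), w * g * w⁻¹ = h ∧ w * h * w⁻¹ = g * h := by
  obtain ⟨i, hi⟩ : ∃ i : F, 2 * i = 1 := ⟨2⁻¹, mul_inv_cancel₀ (PSLFour.two_ne hodd)⟩
  have hg := (PSLFour.sq_iff g).1 hp.1
  have hh := (PSLFour.sq_iff h).1 hp.2.1
  have entry : ∀ x y : SL(2, F), x = y → ∀ j k, x.1 j k = y.1 j k := fun x y e j k => by rw [e]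
  have hA := entry _ _ hp.1 0 0
  have hD := entry _ _ hp.2.1 0 0
  have hP := entry _ _ hp.next.2.1 0 0
  have hR := entry _ _ hp.2.2 0 0
  simp only [PSLFour.val_mul, PSLFour.val_neg, PSLFour.val_one.1, hg, hh] at hA hD hP hR
  let w : SL(2, F) := PSLFour.sl
    (i * (1 + g.1 0 0 + h.1 0 0 + (g.1 0 0 * h.1 0 0 + g.1 0 1 * h.1 1 0)))
    (i * (g.1 0 1 + h.1 0 1 + (g.1 0 0 * h.1 0 1 - g.1 0 1 * h.1 0 0)))
    (i * (g.1 1 0 + h.1 1 0 + (g.1 1 0 * h.1 0 0 - g.1 0 0 * h.1 1 0)))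
    (i * (1 - g.1 0 0 - h.1 0 0 - (g.1 0 0 * h.1 0 0 + g.1 0 1 * h.1 1 0)))
    (by linear_combination (-i ^ 2) * (hA + hD + hP + (1 + g.1 0 0 + h.1 0 0) * hR) + (2 * i + 1) * hi)
  have hw : (w : Matrix (Fin 2) (Fin 2) F) = i • (1 + (g : Matrix (Fin 2) (Fin 2) F) +
      (h : Matrix (Fin 2) (Fin 2) F) + (g : Matrix (Fin 2) (Fin 2) F) * (h : Matrix (Fin 2) (Fin 2) F)) := by
    have h11 : (g * h).1 1 1 = -(g * h).1 0 0 := (PSLFour.sq_iff _).1 hp.next.2.1
    simp only [PSLFour.val_mul, hg, hh] at h11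
    ext j k
    fin_cases j <;> fin_cases k <;>
      simp [w, PSLFour.sl00, PSLFour.sl01, PSLFour.sl10, PSLFour.sl11, Matrix.mul_apply, Fin.sum_univ_two, hg, hh,
        -mul_eq_mul_left_iff]
    · ring
    · ring
    · linear_combination (-i) * h11
  set a : Matrix (Fin 2) (Fin 2) F := (g : Matrix (Fin 2) (Fin 2) F)
  set b : Matrix (Fin 2) (Fin 2) F := (h : Matrix (Fin 2) (Fin 2) F)
  have eaa : a * a = -1 := by simpa [a] using congrArg Subtype.val hp.1
  have ebb : b * b = -1 := by simpa [b] using congrArg Subtype.val hp.2.1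
  have eba : b * a = -(a * b) := by
    have := congrArg Subtype.val hp.2.2
    simp [a, b] at this ⊢
    rw [this, neg_neg]
  have eaba : a * b * a = b := by rw [mul_assoc, eba, mul_neg, ← mul_assoc, eaa, neg_mul, one_mul, neg_neg]
  have ebab : b * (a * b) = a := by rw [← mul_assoc, eba, neg_mul, mul_assoc, ebb, mul_neg, mul_one, neg_neg]
  have k1 : w * g = h * w := Subtype.ext (by
    show (w : Matrix (Fin 2) (Fin 2) F) * a = b * (w : Matrix (Fin 2) (Fin 2) F)
    rw [hw, smul_mul_assoc, mul_smul_comm]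
    congr 1
    simp only [add_mul, mul_add, one_mul, mul_one, eaa, ebb, eba, eaba, ebab]
    abel)
  have k2 : w * h = g * h * w := Subtype.ext (by
    show (w : Matrix (Fin 2) (Fin 2) F) * b = a * b * (w : Matrix (Fin 2) (Fin 2) F)
    rw [hw, smul_mul_assoc, mul_smul_comm]
    congr 1
    have e3 : a * b * b = -a := by rw [mul_assoc, ebb, mul_neg, mul_one]
    have e4 : a * b * (a * b) = -1 := by rw [← mul_assoc, eaba, ebb]
    simp only [add_mul, mul_add, one_mul, mul_one, ebb, eaba, e3, e4]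
    abel)
  exact ⟨w, mul_inv_eq_iff_eq_mul.2 k1, mul_inv_eq_iff_eq_mul.2 k2⟩

/-- The involution centralisers have the order of the centraliser of `J` in `SL(2, q)`. -/
theorem card_cent_psl (hodd : Odd (Fintype.card F)) {x : P2} (hx : orderOf x = 2) :
    Nat.card (centralizer ({x} : Set P2)) = Nat.card ↥(PSLFour.C (F := F)) := by
  obtain ⟨g, hg⟩ := isConj_iff.1 (PSLFour.involutions_conj hodd _ _ (Cfsg.Lib.FourGW.orderOf_πJ hodd) hx)
  have e : centralizer ({x} : Set P2) =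
      (centralizer ({π PSLFour.J} : Set P2)).map (MulAut.conj g).toMonoidHom := by
    ext y
    rw [Subgroup.mem_map_equiv, MulAut.conj_symm_apply, GenDihedral.mem_cent, GenDihedral.mem_cent, ← hg]
    constructor
    · intro h
      calc g⁻¹ * y * g * π PSLFour.J = g⁻¹ * (y * (g * π PSLFour.J * g⁻¹)) * g := by group
        _ = π PSLFour.J * (g⁻¹ * y * g) := by rw [h]; group
    · intro h
      calc y * (g * π PSLFour.J * g⁻¹) = g * (g⁻¹ * y * g * π PSLFour.J) * g⁻¹ := by group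
        _ = g * π PSLFour.J * g⁻¹ * y := by rw [h]; group
  have hle : (Cfsg.Lib.FourGW.tA : Subgroup P2) ≤ centralizer ({π PSLFour.J} : Set P2) := by
    rintro _ ⟨c, hc, rfl⟩
    exact (Cfsg.Lib.FourGW.mem_cent_J hodd).2 (Or.inl hc)
  rw [e, card_map_of_injective (MulAut.conj g).injective, ← Cfsg.Lib.FourGW.two_mul_card_tA hodd,
    ← relIndex_bot_left, ← relIndex_mul_relIndex _ _ _ bot_le hle, relIndex_bot_left,
    Cfsg.Lib.FourGW.tA_relIndex hodd, mul_comm]

/-- The count of conjugates of an involution against the odd divisors of its centraliser. -/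
theorem psl_bound (hodd : Odd (Fintype.card F)) {x : P2} (hx : orderOf x = 2) {T : ℕ} (hT : Odd T)
    (hd : T ∣ Nat.card (centralizer ({x} : Set P2))) :
    (4 * T - 1) * (2 * T - 1) ≤ (centralizer ({x} : Set P2)).index ∧
      (2 ^ (Nat.card P2).factorization 2 * T - 1) * (2 ^ (Nat.card P2).factorization 2 * T - 2) ≤
        2 * (centralizer ({x} : Set P2)).index := by
  have h2a := Nat.ordProj_dvd (Nat.card P2) 2
  have hc := card_cent_psl hodd hx
  have hmul : Nat.card P2 * 2 = Fintype.card F * (Fintype.card F ^ 2 - 1) := Cfsg.Lib.FourGW.card_P2_mul hodd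
  rw [← (centralizer ({x} : Set P2)).card_mul_index] at hmul h2a ⊢
  set n := (centralizer ({x} : Set P2)).index
  rw [hc] at hd hmul h2a ⊢
  obtain ⟨hC1, hC3⟩ := PSLFour.card_C (F := F) hodd
  obtain ⟨k, hk⟩ := hodd
  set q := Fintype.card F
  set c := Nat.card ↥(PSLFour.C (F := F))
  have hq : 2 ≤ q := Fintype.one_lt_card
  have hsq : q ^ 2 - 1 = (q + 1) * (q - 1) := by
    have h' := Nat.sq_sub_sq q 1
    rwa [one_pow] at h'
  rw [hsq] at hmul
  set A := 2 ^ (c * n).factorization 2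
  have main : 4 ∣ c → c ≤ q + 1 → q * k ≤ n → Odd n → (c - 1) * (c - 2) ≤ 2 * n →
      (4 * T - 1) * (2 * T - 1) ≤ n ∧ (A * T - 1) * (A * T - 2) ≤ 2 * n := by
    intro h4 hle hn hno hfull
    have hTc : 4 * T ≤ c := by
      refine Nat.le_of_dvd Nat.card_pos (Nat.Coprime.mul_dvd_of_dvd_of_dvd ?_ h4 hd)
      exact Nat.Coprime.pow_left 2 (Nat.coprime_two_left.2 hT)
    have hA : A ∣ c :=
      (Nat.Coprime.pow_left _ (Nat.coprime_two_left.2 hno)).dvd_of_dvd_mul_right h2a
    have hAT : A * T ≤ c := Nat.le_of_dvd Nat.card_pos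
      (Nat.Coprime.mul_dvd_of_dvd_of_dvd (Nat.Coprime.pow_left _ (Nat.coprime_two_left.2 hT)) hA hd)
    exact ⟨le_trans (Nat.mul_le_mul (by omega) (by omega)) hn,
      le_trans (Nat.mul_le_mul (by omega) (by omega)) hfull⟩
  rcases (show q % 4 = 1 ∨ q % 4 = 3 by omega) with h | h
  · rw [hC1 h] at hmul
    have e : (q - 1) * (2 * n) = (q - 1) * (q * (q + 1)) := by rw [← mul_assoc, mul_comm _ 2, mul_comm 2]; linarith
    have := Nat.eq_of_mul_eq_mul_left (by omega) e
    refine main (hC1 h ▸ by omega) (hC1 h ▸ by omega) (by nlinarith) ?_ ?_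
    · refine (Nat.odd_mul.2 ⟨⟨k, hk⟩, show Odd ((q + 1) / 2) from Nat.odd_iff.2 (by omega)⟩ : Odd (q * ((q + 1) / 2))).of_dvd_nat ?_
      rw [show q + 1 = 2 * ((q + 1) / 2) by omega, mul_left_comm] at this
      rw [Nat.eq_of_mul_eq_mul_left two_pos this]
    · rw [hC1 h, this]
      exact Nat.mul_le_mul (by omega) (by omega)
  · rw [hC3 h] at hmul
    have e : (q + 1) * (2 * n) = (q + 1) * (q * (q - 1)) := by
      rw [← mul_assoc, mul_comm _ 2, mul_comm 2]; linarith
    have h1 := Nat.eq_of_mul_eq_mul_left (by omega) e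
    rw [show q - 1 = 2 * k by omega] at h1
    refine main (hC3 h ▸ by omega) (hC3 h ▸ by omega) (by nlinarith) ?_ ?_
    · refine (Nat.odd_mul.2 ⟨⟨k, hk⟩, show Odd k from Nat.odd_iff.2 (by omega)⟩ : Odd (q * k)).of_dvd_nat ?_
      rw [mul_left_comm] at h1
      rw [Nat.eq_of_mul_eq_mul_left two_pos h1]
    · rw [hC3 h, h1]
      exact Nat.mul_le_mul (by omega) (by omega)

variable {X : Type u} [Group X] [Finite X]

/-- A normal self-centralising `PSL(2, q)` in a group of 2-rank two is a top. -/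
theorem topData_of_psl {L : Subgroup X} [L.Normal] (hodd : Odd (Fintype.card F)) (e : L ≃* P2)
    (hC : centralizer (L : Set X) = ⊥) (hr : RankTwo X) : TopData L := by
  have K := l2Like_of_psl hodd e hC hr
  have hconj : ∀ a b : X, orderOf a = 2 → orderOf b = 2 → a ∈ L → b ∈ L → ∃ l ∈ L, l * a * l⁻¹ = b := by
    intro a b ha hb haL hbL
    obtain ⟨g, hg⟩ := isConj_iff.1 (PSLFour.involutions_conj hodd (e ⟨a, haL⟩) (e ⟨b, hbL⟩)
      (by rw [MulEquiv.orderOf_eq, Subgroup.orderOf_mk, ha]) (by rw [MulEquiv.orderOf_eq, Subgroup.orderOf_mk, hb]))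
    refine ⟨(e.symm g : L), (e.symm g).2, ?_⟩
    have h : e.symm g * ⟨a, haL⟩ * (e.symm g)⁻¹ = ⟨b, hbL⟩ :=
      e.injective (by rw [map_mul, map_mul, map_inv, e.apply_symm_apply, hg])
    exact congrArg Subtype.val h
  refine K.topData ?_ ?_ hconj ?_
  · obtain ⟨h, hh, hJh, -⟩ := PSLFour.exists_anti (F := F) hodd
    obtain ⟨a1, b1, hab, a0, b0, hne⟩ := PSLFour.pair_facts hodd (g := PSLFour.J) (h := h) ⟨PSLFour.J_sq, hh, hJh⟩
    have ho : ∀ x : P2, x * x = 1 → x ≠ 1 → orderOf ((e.symm x : L) : X) = 2 := fun x h1 h0 => by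
      rw [orderOf_coe, MulEquiv.orderOf_eq]
      exact orderOf_eq_prime (by rwa [pow_two]) h0
    refine ⟨(e.symm (π PSLFour.J) : L), (e.symm (π h) : L), (e.symm (π PSLFour.J)).2, (e.symm (π h)).2,
      isFour_of_comm (ho _ a1 a0) (ho _ b1 b0) ?_ fun h' => hne (e.symm.injective (Subtype.ext h'))⟩
    exact congrArg Subtype.val (show e.symm (π PSLFour.J) * e.symm (π h) = e.symm (π h) * e.symm (π PSLFour.J) by
      rw [← map_mul, hab, map_mul])
  · intro a b haL hbL F4
    have ho : ∀ (x : X) (hx : x ∈ L), orderOf x = 2 → e ⟨x, hx⟩ * e ⟨x, hx⟩ = 1 ∧ e ⟨x, hx⟩ ≠ 1 := fun x hx h2 => by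
      have h : orderOf (e ⟨x, hx⟩) = 2 := by rw [MulEquiv.orderOf_eq, Subgroup.orderOf_mk, h2]
      exact ⟨mul_self_of_two h, fun h1 => by rw [h1, orderOf_one] at h; omega⟩
    have hcomm : e ⟨a, haL⟩ * e ⟨b, hbL⟩ = e ⟨b, hbL⟩ * e ⟨a, haL⟩ := by
      rw [← map_mul, ← map_mul, show (⟨a, haL⟩ * ⟨b, hbL⟩ : L) = ⟨b, hbL⟩ * ⟨a, haL⟩ from Subtype.ext F4.comm]
    obtain ⟨g, h, hg, hh, hp⟩ := PSLFour.lift_pair hodd (ho a haL F4.z2).1 (ho b hbL F4.t2).1 hcomm
      (ho a haL F4.z2).2 (ho b hbL F4.t2).2 fun h' => F4.ne_zt (congrArg Subtype.val (e.injective h'))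
    obtain ⟨w, h1, h2⟩ := exists_hurwitz hodd hp
    refine ⟨(e.symm (π w) : L), (e.symm (π w)).2, ?_, ?_⟩
    · have : e.symm (π w) * ⟨a, haL⟩ * (e.symm (π w))⁻¹ = ⟨b, hbL⟩ := e.injective (by
        rw [map_mul, map_mul, map_inv, e.apply_symm_apply, ← hg, ← hh, ← map_inv, ← map_mul, ← map_mul, h1])
      exact congrArg Subtype.val this
    · have : e.symm (π w) * ⟨b, hbL⟩ * (e.symm (π w))⁻¹ = ⟨a, haL⟩ * ⟨b, hbL⟩ := e.injective (by
        rw [map_mul, map_mul, map_inv, e.apply_symm_apply, map_mul, ← hg, ← hh, ← map_inv, ← map_mul, ← map_mul,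
          ← map_mul, h2])
      exact congrArg Subtype.val this
  · intro t htL ht T hT hd
    rw [Nat.card_congr e.toEquiv]
    have ec : centralizer ({(⟨t, htL⟩ : L)} : Set L) =
        (centralizer ({e ⟨t, htL⟩} : Set P2)).comap e.toMonoidHom := by
      ext y
      rw [GenDihedral.mem_cent, Subgroup.mem_comap, GenDihedral.mem_cent]
      simp only [MulEquiv.coe_toMonoidHom, ← map_mul, e.injective.eq_iff]
    rw [ec, index_comap_of_surjective _ e.surjective]
    refine psl_bound hodd (by rw [MulEquiv.orderOf_eq, Subgroup.orderOf_mk, ht]) hT ?_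
    rwa [ec, ← card_map_of_injective (f := e.toMonoidHom) e.injective,
      Subgroup.map_comap_eq_self_of_surjective e.surjective] at hd

end Cfsg.Lib.GWD
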