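import Cfsg.Agent.GWDihedral.Tops.Data

/-!
The tops `A₄` and `S₄`: a self-centralising normal four-group of index three or six.
-/

set_option autoImplicit false
set_option linter.unusedSectionVars false
set_option linter.style.haveILetI false

namespace Cfsg.Lib.GWD

open Subgroup Cfsg.Lib.GenDihedral

universe u

variable {X : Type u} [Group X] [Finite X]

theorem topData_of_klein {P : Subgroup X} [P.Normal] (hK : IsKleinFour P) (hC : centralizer (P : Set X) = P)
    (hi : P.index = 3 ∨ P.index = 6) : ∃ L : Subgroup X, TopData L ∧ ¬ 4 ∣ L.index := by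
  haveI : Fact (Nat.Prime 3) := ⟨Nat.prime_three⟩
  have hcard : Nat.card P = 4 := hK.card_four
  have h3 : 3 ∣ Nat.card X := by
    rw [← P.card_mul_index]; rcases hi with h | h <;> rw [h] <;> exact Dvd.dvd.mul_left (by norm_num) _
  obtain ⟨a, ha⟩ := exists_prime_orderOf_dvd_card' 3 h3
  have hsqP : ∀ p ∈ P, p * p = 1 := fun p hp =>
    congrArg Subtype.val (Cfsg.Lib.GWFour.sq_of_klein (⟨p, hp⟩ : P))
  have hcP : ∀ p ∈ P, ∀ q ∈ P, p * q = q * p := fun p hp q hq =>
    congrArg Subtype.val (Cfsg.Lib.GWFour.comm_of_klein (⟨p, hp⟩ : P) ⟨q, hq⟩)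
  have hfour : ∀ p q, p ∈ P → q ∈ P → p ≠ 1 → q ≠ 1 → p ≠ q → ∀ x ∈ P, x = 1 ∨ x = p ∨ x = q ∨ x = p * q := by
    intro p q hp hq hp1 hq1 hpq x hx
    classical
    by_contra h
    push Not at h
    have h5 : ({1, p, q, p * q, x} : Finset X).card = 5 := by
      have h1 : p * q ≠ 1 := fun e => hpq (by rw [eq_inv_of_mul_eq_one_left e, inv_eq_of_mul_eq_one_left (hsqP q hq)])
      simp [Ne.symm hp1, Ne.symm hq1, Ne.symm h1, Ne.symm h.1, hpq, Ne.symm h.2.1, Ne.symm h.2.2.1, Ne.symm h.2.2.2,
        hp1, hq1]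
    have hsub : (({1, p, q, p * q, x} : Finset X) : Set X) ⊆ (P : Set X) := by
      intro y hy
      simp only [Finset.coe_insert, Finset.coe_singleton, Set.mem_insert_iff, Set.mem_singleton_iff] at hy
      rcases hy with rfl | rfl | rfl | rfl | rfl
      exacts [one_mem _, hp, hq, mul_mem hp hq, hx]
    have := Set.ncard_le_ncard hsub (Set.toFinite _)
    rw [Set.ncard_coe_finset, h5, ← Nat.card_coe_set_eq] at this
    change 5 ≤ Nat.card ↥P at this
    omega
  -- an element of order three fixes no involution of `P`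
  have hfix : ∀ b : X, orderOf b = 3 → ∀ p ∈ P, b * p = p * b → p = 1 := by
    intro b hb p hp hbp
    by_contra hp1
    have hbC : b ∈ centralizer (P : Set X) := by
      refine mem_centralizer_iff.2 fun q hq => ?_
      by_cases hq1 : q = 1
      · simp [hq1]
      by_cases hpq : p = q
      · exact hpq ▸ hbp.symm
      have hq' : b * q * b⁻¹ ∈ P := Subgroup.Normal.conj_mem inferInstance q hq b
      rcases hfour p q hp hq hp1 hq1 hpq _ hq' with h | h | h | h
      · exact absurd (conj_eq_one_iff.1 h) hq1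
      · exact absurd ((MulAut.conj b).injective ((show b * q * b⁻¹ = b * p * b⁻¹ by
          rw [h, hbp, mul_inv_cancel_right]))).symm hpq
      · exact (mul_inv_eq_iff_eq_mul.1 h).symm
      · exfalso
        have e : b * p * b⁻¹ = p := by rw [hbp, mul_inv_cancel_right]
        have h2 : b * (b * q * b⁻¹) * b⁻¹ = q := by
          rw [h, ← _root_.conj_mul, e, h, ← mul_assoc, hsqP p hp, one_mul]
        have h3 : b * (b * (b * q * b⁻¹) * b⁻¹) * b⁻¹ = q := by
          have hb3 : b * b * b = 1 := by rw [← pow_three', ← hb, pow_orderOf_eq_one]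
          calc b * (b * (b * q * b⁻¹) * b⁻¹) * b⁻¹ = b * b * b * q * (b * b * b)⁻¹ := by group
            _ = q := by rw [hb3]; group
        rw [h2, h] at h3
        exact hp1 (mul_eq_right.1 h3)
    rw [hC] at hbC
    have := hsqP b hbC
    have h2 : orderOf b ∣ 2 := orderOf_dvd_of_pow_eq_one (by rw [pow_two, this])
    rw [hb] at h2; omega
  -- an element of order three commutes with no involution
  have hno : ∀ b t : X, orderOf b = 3 → orderOf t = 2 → b * t ≠ t * b := by
    intro b t hb ht hbt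
    have ht1 : t ≠ 1 := fun e => by rw [e, orderOf_one] at ht; omega
    by_cases htP : t ∈ P
    · exact ht1 (hfix b hb t htP hbt)
    obtain ⟨p, hp, hp1, hpt⟩ : ∃ p ∈ P, p ≠ 1 ∧ t * p = p * t := by
      obtain ⟨q, hq, hq1⟩ := P.bot_or_exists_ne_one.resolve_left fun e => by
        rw [e, card_bot] at hcard; omega
      have hq' : t * q * t⁻¹ ∈ P := Subgroup.Normal.conj_mem inferInstance q hq t
      by_cases h : q * (t * q * t⁻¹) = 1
      · refine ⟨q, hq, hq1, mul_inv_eq_iff_eq_mul.1 ?_⟩
        exact (eq_inv_of_mul_eq_one_right h).trans (inv_eq_of_mul_eq_one_left (hsqP q hq))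
      · refine ⟨_, mul_mem hq hq', h, mul_inv_eq_iff_eq_mul.1 ?_⟩
        rw [← _root_.conj_mul, conj_conj t t, mul_self_of_two ht, inv_one, mul_one, one_mul, hcP _ hq' _ hq]
    have hp' : b * p * b⁻¹ ∈ P := Subgroup.Normal.conj_mem inferInstance p hp b
    have hpt' : t * (b * p * b⁻¹) = b * p * b⁻¹ * t := by
      have h1 : b⁻¹ * t = t * b⁻¹ := ((show Commute b t from hbt).inv_left).eq
      calc t * (b * p * b⁻¹) = t * b * p * b⁻¹ := by group
        _ = b * (t * p) * b⁻¹ := by rw [← hbt]; group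
        _ = b * p * (t * b⁻¹) := by rw [hpt]; group
        _ = b * p * b⁻¹ * t := by rw [← h1]; group
    have hne : p ≠ b * p * b⁻¹ := fun e => hp1 (hfix b hb p hp (mul_inv_eq_iff_eq_mul.1 e.symm))
    refine htP (hC.le (mem_centralizer_iff.2 fun x hx => ?_))
    rcases hfour p _ hp hp' hp1 (fun e => hp1 (conj_eq_one_iff.1 e)) hne x hx with rfl | rfl | rfl | rfl
    · simp
    · exact hpt.symm
    · exact hpt'.symm
    · rw [mul_assoc, ← hpt', ← mul_assoc, ← hpt, mul_assoc]
  set L := zpowers a ⊔ P with hL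
  have haL : a ∈ L := mem_sup_left (mem_zpowers a)
  have hPL : P ≤ L := le_sup_right
  have haP : a ∉ P := fun h => by
    have h2 : orderOf a ∣ 2 := orderOf_dvd_of_pow_eq_one (by rw [pow_two, hsqP a h])
    rw [ha] at h2; omega
  have hPr : P.relIndex L = 3 := by
    rw [hL, Subgroup.relIndex_sup_right]
    have h1 : P.relIndex (zpowers a) ∣ 3 := by
      rw [← ha, ← Nat.card_zpowers]
      exact Subgroup.index_dvd_card _
    refine ((Nat.dvd_prime Nat.prime_three).1 h1).resolve_left fun h => haP ?_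
    exact relIndex_eq_one.1 h (mem_zpowers a)
  have hLi : L.index = 1 ∨ L.index = 2 := by
    have := Subgroup.relIndex_mul_index hPL
    rw [hPr] at this
    omega
  have hLc : Nat.card L = 12 := by
    rw [← relIndex_bot_left, ← relIndex_mul_relIndex ⊥ P L bot_le hPL, relIndex_bot_left, hcard, hPr]
  have hLn : L.Normal := by
    rcases hLi with h | h
    · rw [Subgroup.index_eq_one.1 h]; infer_instance
    · exact Subgroup.normal_of_index_eq_two h
  haveI := hLn
  have hodd : ∀ b ∈ L, Odd (orderOf b) → b = 1 ∨ orderOf b = 3 := by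
    intro b hb ho
    have h1 : orderOf b ∣ 12 := hLc ▸ Subgroup.orderOf_dvd_natCard L hb
    have h2 : orderOf b ∣ 3 := by
      rw [show 12 = 4 * 3 from rfl] at h1
      exact (Nat.Coprime.pow_right 2 (Nat.coprime_two_right.2 ho)).dvd_of_dvd_mul_left h1
    rcases (Nat.dvd_prime Nat.prime_three).1 h2 with h | h
    · exact Or.inl (orderOf_eq_one_iff.1 h)
    · exact Or.inr h
  have htriv : ∀ t b : X, orderOf t = 2 → b ∈ L → Odd (orderOf b) → b * t = t * b → b = 1 :=
    fun t b ht hb ho hc => (hodd b hb ho).resolve_right fun h => hno b t h ht hc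
  have hcos : ∀ x y : X, orderOf x = 2 → orderOf y = 2 → x ∉ L → y ∉ L → x * y ∈ L := by
    intro x y _ _ hx hy
    rcases hLi with h | h
    · exact absurd (Subgroup.index_eq_one.1 h ▸ mem_top x) hx
    · exact (Subgroup.mul_mem_iff_of_index_two h).2 ⟨fun h' => absurd h' hx, fun h' => absurd h' hy⟩
  have K : L2Like L := ⟨hLn, hcos,
    fun t x y ht hx hy hxo hyo hxt hyt => by rw [htriv t x ht hx hxo hxt, one_mul, mul_one],
    fun t t' x ht _ hx hxo hx1 hxt _ => absurd (htriv t x ht hx hxo hxt) hx1,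
    fun t ht A hA hA' => by
      have : A = ⊥ := (Subgroup.eq_bot_iff_forall A).2 fun x hx => htriv t x ht (hA hx) (hA' x hx).1 (hA' x hx).2
      rw [this]; infer_instance⟩
  have hinP : ∀ x ∈ L, orderOf x = 2 → x ∈ P := by
    intro x hx h2
    have := Subgroup.mem_subgroupOf.1 (Subgroup.pow_index_mem (P.subgroupOf L) (⟨x, hx⟩ : L))
    rw [show (P.subgroupOf L).index = 3 from hPr, SubmonoidClass.coe_pow, pow_three', mul_self_of_two h2,
      one_mul] at this
    exact this
  have hrot : ∀ p q : X, p ∈ L → q ∈ L → IsFour p q (p * q) → ∃ l ∈ L, l * p * l⁻¹ = q ∧ l * q * l⁻¹ = p * q := by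
    intro p q hp hq F4
    have hpP := hinP p hp F4.z2
    have hqP := hinP q hq F4.t2
    have hp1 : p ≠ 1 := fun e => by have := F4.z2; rw [e, orderOf_one] at this; omega
    have hq1 : q ≠ 1 := fun e => by have := F4.t2; rw [e, orderOf_one] at this; omega
    have hcases := hfour p q hpP hqP hp1 hq1 F4.ne_zt
    have hmv : ∀ x ∈ P, x ≠ 1 → a * x * a⁻¹ ≠ x := fun x hx hx1 e => hx1 (hfix a ha x hx (mul_inv_eq_iff_eq_mul.1 e))
    have h3a : ∀ x : X, a * (a * (a * x * a⁻¹) * a⁻¹) * a⁻¹ = x := fun x => by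
      have ha3 : a * a * a = 1 := by rw [← pow_three', ← ha, pow_orderOf_eq_one]
      calc a * (a * (a * x * a⁻¹) * a⁻¹) * a⁻¹ = a * a * a * x * (a * a * a)⁻¹ := by group
        _ = x := by rw [ha3]; group
    have hv : p * q ≠ 1 := fun e => F4.ne_zt (by rw [eq_inv_of_mul_eq_one_left e, inv_of_two F4.t2])
    rcases hcases _ (Subgroup.Normal.conj_mem inferInstance p hpP a) with h | h | h | h
    · exact absurd (conj_eq_one_iff.1 h) hp1
    · exact absurd h (hmv p hpP hp1)
    · refine ⟨a, haL, h, ?_⟩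
      rcases hcases _ (Subgroup.Normal.conj_mem inferInstance q hqP a) with h' | h' | h' | h'
      · exact absurd (conj_eq_one_iff.1 h') hq1
      · exfalso
        have := h3a p
        rw [h, h'] at this
        exact hmv p hpP hp1 this
      · exact absurd h' (hmv q hqP hq1)
      · exact h'
    · have h' : a * q * a⁻¹ = p := by
        rcases hcases _ (Subgroup.Normal.conj_mem inferInstance q hqP a) with h' | h' | h' | h'
        · exact absurd (conj_eq_one_iff.1 h') hq1
        · exact h'
        · exact absurd h' (hmv q hqP hq1)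
        · exact absurd ((MulAut.conj a).injective (h.trans h'.symm)) F4.ne_zt
      refine ⟨a⁻¹, inv_mem haL, ?_, ?_⟩
      · rw [← h']; group
      · have : a * (p * q) * a⁻¹ = q := by rw [← _root_.conj_mul, h, h', hcP p hpP q hqP, mul_assoc, hsqP p hpP, mul_one]
        calc a⁻¹ * q * a⁻¹⁻¹ = a⁻¹ * (a * (p * q) * a⁻¹) * a⁻¹⁻¹ := by rw [this]
          _ = p * q := by group
  refine ⟨L, K.topData ?_ hrot ?_ ?_, by omega⟩
  · obtain ⟨p, hp, hp1⟩ := P.bot_or_exists_ne_one.resolve_left fun e => by rw [e, card_bot] at hcard; omega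
    have hp' : a * p * a⁻¹ ∈ P := Subgroup.Normal.conj_mem inferInstance p hp a
    exact ⟨p, _, hPL hp, hPL hp', isFour_of_comm (orderOf_eq_prime (by rw [pow_two, hsqP p hp]) hp1)
      (orderOf_eq_prime (by rw [pow_two, hsqP _ hp']) fun e => hp1 (conj_eq_one_iff.1 e)) (hcP p hp _ hp')
      fun e => hp1 (hfix a ha p hp (mul_inv_eq_iff_eq_mul.1 e.symm))⟩
  · intro x y hx hy hxL hyL
    by_cases e : x = y
    · exact ⟨1, one_mem L, by simp [e]⟩
    obtain ⟨l, hl, h, -⟩ := hrot x y hxL hyL (isFour_of_comm hx hy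
      (hcP x (hinP x hxL hx) y (hinP y hyL hy)) e)
    exact ⟨l, hl, h⟩
  · intro t htL ht T hT hd
    set C := centralizer ({(⟨t, htL⟩ : L)} : Set L)
    have hC4 : ¬ 3 ∣ Nat.card C := fun h => by
      obtain ⟨b, hb⟩ := exists_prime_orderOf_dvd_card' 3 h
      refine hno ((b : L) : X) t (by rw [orderOf_coe, orderOf_coe, hb]) ht ?_
      exact congrArg Subtype.val (GenDihedral.mem_cent.1 b.2)
    have hm := C.card_mul_index
    rw [hLc] at hm
    have hd12 : Nat.card C ∣ 12 := Dvd.intro _ hm
    have hT1 : T = 1 := by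
      have h3 : T ∣ 3 := (Nat.Coprime.pow_right 2 (Nat.coprime_two_right.2 hT)).dvd_of_dvd_mul_left
        (show T ∣ 2 ^ 2 * 3 from hd.trans hd12)
      rcases (Nat.dvd_prime Nat.prime_three).1 h3 with h | h
      · exact h
      · exact absurd (h ▸ hd) hC4
    subst hT1
    have hfac : (Nat.card L).factorization 2 = 2 := by
      rw [hLc, show (12 : ℕ) = 2 ^ 2 * 3 from rfl, Nat.factorization_mul (by norm_num) (by norm_num),
        Nat.prime_three.factorization, Finsupp.add_apply, Nat.Prime.factorization_pow Nat.prime_two]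
      simp
    rw [hfac]
    have h3i : 3 ∣ C.index := (Nat.prime_three.dvd_mul.1 (hm ▸ (by norm_num : 3 ∣ 12))).resolve_left hC4
    have := Nat.le_of_dvd (Nat.pos_of_ne_zero index_ne_zero_of_finite) h3i
    omega

end Cfsg.Lib.GWD
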