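import Cfsg.Agent.GWDihedral.Tops.Linear
import Cfsg.Agent.GWDihedral.Shell.Target
import Cfsg.Agent.GenDihedral.Four.L2Top

/-!
Groups with a normal `PSL(2, q)` and 2-rank two: the odd tori of all involutions, and the involution centralising an
invariant subgroup of odd order.
-/

set_option autoImplicit false
set_option linter.unusedSectionVars false
set_option linter.style.haveILetI false

namespace Cfsg.Lib.GWD

open Subgroup Cfsg.Lib.GenDihedral
open Cfsg.Lib.Known.AutPSLn (conjP)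
open scoped commutatorElement

universe u

variable {X : Type u} [Group X] [Finite X]

/-- Three pairwise commuting involutions are dependent. -/
def RankTwo (X : Type u) [Group X] : Prop :=
  ∀ a b c : X, a * a = 1 → b * b = 1 → c * c = 1 → a * b = b * a → a * c = c * a → b * c = c * b →
    a = 1 ∨ b = 1 ∨ a = b ∨ c = 1 ∨ c = a ∨ c = b ∨ c = a * b

theorem rankTwo_of_dihedral (S : Sylow 2 X) {m : ℕ} (hm : 2 ≤ m)
    (hS : Nonempty ((S : Subgroup X) ≃* DihedralGroup m)) : RankTwo X := by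
  intro a b c ha hb hc hab hac hbc
  by_contra hcon
  push Not at hcon
  obtain ⟨ha1, hb1, hne, hc1, hca, hcb, hcab⟩ := hcon
  haveI : Fact (Nat.Prime 2) := ⟨Nat.prime_two⟩
  haveI : NeZero m := ⟨by omega⟩
  set E := closure ({a, b, c} : Set X) with hE
  have hcl : IsMulCommutative ↥E := by
    refine isMulCommutative_closure ?_
    rintro x (rfl | rfl | rfl) y (rfl | rfl | rfl)
    exacts [rfl, hab, hac, hab.symm, rfl, hbc, hac.symm, hbc.symm, rfl]
  have hexp : ∀ x ∈ E, x * x = 1 := by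
    intro x hx
    induction hx using closure_induction with
    | mem x hx => rcases hx with rfl | rfl | rfl <;> assumption
    | one => exact one_mul 1
    | mul x y hx hy ihx ihy =>
      have hcy : x * y = y * x := congrArg Subtype.val (hcl.is_comm.comm ⟨x, hx⟩ ⟨y, hy⟩)
      rw [mul_assoc, ← mul_assoc y, ← hcy, mul_assoc x y y, ihy, mul_one, ihx]
    | inv x hx ih => rw [← _root_.mul_inv_rev, ih, inv_one]
  obtain ⟨T, hT⟩ := (show IsPGroup 2 E from fun y => ⟨1, Subtype.ext (by simp [pow_two, hexp _ y.2])⟩).exists_le_sylow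
  obtain ⟨g, hg⟩ := MulAction.exists_smul_eq X T S
  have hle : E.map (MulAut.conj g).toMonoidHom ≤ (S : Subgroup X) := by rw [← hg]; exact map_mono hT
  have hexp' : ∀ x ∈ E.map (MulAut.conj g).toMonoidHom, x * x = 1 := by
    rintro _ ⟨x, hx, rfl⟩
    rw [← map_mul, hexp x hx, map_one]
  have hsq : ∀ y : ↥(E.map (MulAut.conj g).toMonoidHom), y ^ 2 = 1 := fun y =>
    Subtype.ext ((SubmonoidClass.coe_pow y 2).trans ((pow_two _).trans (hexp' _ y.2)))
  have h4 : Nat.card ↥(E.map (MulAut.conj g).toMonoidHom) ≤ 4 := by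
    rcases sub_of_equiv hS.some hle with hcy | ⟨d, hd, ⟨f⟩⟩
    · obtain ⟨y, hy⟩ := hcy.exists_generator
      have h2 : orderOf y ∣ 2 := orderOf_dvd_of_pow_eq_one (hsq y)
      rw [orderOf_eq_card_of_forall_mem_zpowers hy] at h2
      have := Nat.le_of_dvd two_pos h2
      omega
    · haveI : NeZero d := ⟨by omega⟩
      have h : (DihedralGroup.r (1 : ZMod d) : DihedralGroup d) ^ 2 = 1 := by
        obtain ⟨y, hy⟩ := f.surjective (DihedralGroup.r (1 : ZMod d))
        rw [← hy, ← map_pow, hsq, map_one]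
      have := Nat.le_of_dvd two_pos ((DihedralGroup.orderOf_r_one (n := d)) ▸ orderOf_dvd_of_pow_eq_one h)
      rw [Nat.card_congr f.toEquiv, DihedralGroup.nat_card]
      omega
  rw [Subgroup.card_map_of_injective (MulAut.conj g).injective] at h4
  have hnab : a * b ≠ 1 ∧ a * b ≠ a ∧ a * b ≠ b :=
    ⟨fun h => hne (by rw [eq_inv_of_mul_eq_one_left h, inv_eq_of_mul_eq_one_left hb]),
      fun h => hb1 (mul_eq_left.1 h), fun h => ha1 (mul_eq_right.1 h)⟩
  classical
  have h5 : ({1, a, b, a * b, c} : Finset X).card = 5 := by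
    simp [hne, Ne.symm hc1, Ne.symm hca, Ne.symm hcb, Ne.symm hcab,
      Ne.symm ha1, Ne.symm hb1, Ne.symm hnab.1, Ne.symm hnab.2.1, Ne.symm hnab.2.2]
  have hsub : (({1, a, b, a * b, c} : Finset X) : Set X) ⊆ (E : Set X) := by
    intro x hx
    simp only [Finset.coe_insert, Finset.coe_singleton, Set.mem_insert_iff, Set.mem_singleton_iff] at hx
    have ma : a ∈ E := subset_closure (by simp)
    have mb : b ∈ E := subset_closure (by simp)
    rcases hx with rfl | rfl | rfl | rfl | rfl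
    exacts [one_mem _, ma, mb, mul_mem ma mb, subset_closure (by simp)]
  have h6 := Set.ncard_le_ncard hsub (Set.toFinite _)
  rw [Set.ncard_coe_finset, h5, ← Nat.card_coe_set_eq] at h6
  change 5 ≤ Nat.card ↥E at h6
  omega

/-- The properties of a normal `PSL(2, q)` in a group of 2-rank two which the local arguments use. -/
structure L2Like (L : Subgroup X) : Prop where
  normal : L.Normal
  coset : ∀ a b : X, orderOf a = 2 → orderOf b = 2 → a ∉ L → b ∉ L → a * b ∈ L
  comm : ∀ t a b : X, orderOf t = 2 → a ∈ L → b ∈ L → Odd (orderOf a) → Odd (orderOf b) →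
    a * t = t * a → b * t = t * b → a * b = b * a
  uniq : ∀ t t' a : X, orderOf t = 2 → orderOf t' = 2 → a ∈ L → Odd (orderOf a) → a ≠ 1 →
    a * t = t * a → a * t' = t' * a → t = t'
  cyc : ∀ t : X, orderOf t = 2 → ∀ A : Subgroup X, A ≤ L → (∀ a ∈ A, Odd (orderOf a) ∧ a * t = t * a) → IsCyclic A

/-- A normal self-centralising `PSL(2, q)` in a group of 2-rank two. -/
theorem l2Like_of_psl {L : Subgroup X} [L.Normal] {F : Type} [Field F] [Fintype F]
    (hodd : Odd (Fintype.card F)) (e : L ≃* Matrix.ProjectiveSpecialLinearGroup (Fin 2) F)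
    (hC : centralizer (L : Set X) = ⊥) (hr : RankTwo X) : L2Like L := by
  classical
  set ψ : X →* MulAut (Matrix.ProjectiveSpecialLinearGroup (Fin 2) F) :=
    (MulAut.congr e).toMonoidHom.comp MulAut.conjNormal with hψdef
  have hψL : ∀ (l : X) (hl : l ∈ L), ψ l = MulAut.conj (e ⟨l, hl⟩) := fun l hl => MulEquiv.ext fun m => by
    show e (MulAut.conjNormal l (e.symm m)) = e ⟨l, hl⟩ * m * (e ⟨l, hl⟩)⁻¹
    rw [show MulAut.conjNormal l (e.symm m) = ⟨l, hl⟩ * e.symm m * ⟨l, hl⟩⁻¹ from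
      Subtype.ext (by simp [MulAut.conjNormal_apply]), map_mul, map_mul, map_inv, e.apply_symm_apply]
  have hψi : Function.Injective ψ := by
    rw [injective_iff_map_eq_one]
    intro g hg
    rw [← Subgroup.mem_bot, ← hC]
    refine mem_centralizer_iff.2 fun x hx => ?_
    have h := MulEquiv.ext_iff.1 hg (e ⟨x, hx⟩)
    change e (MulAut.conjNormal g (e.symm (e ⟨x, hx⟩))) = e ⟨x, hx⟩ at h
    rw [e.symm_apply_apply] at h
    have h1 := congrArg Subtype.val (e.injective h)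
    rw [MulAut.conjNormal_apply] at h1
    exact (mul_inv_eq_iff_eq_mul.1 h1).symm
  have hinn : ∀ m, MulAut.conj m ∈ ψ.range := fun m => ⟨(e.symm m : L), by
    rw [hψL _ (e.symm m).2, Subtype.coe_eta, e.apply_symm_apply]⟩
  have hlin : ∀ t : X, orderOf t = 2 → ∃ g, ψ t = conjP g ∧ Cfsg.Lib.GLTwo.NonScalar (g : Matrix (Fin 2) (Fin 2) F) ∧
      (g : Matrix (Fin 2) (Fin 2) F).trace = 0 := by
    intro t ht
    have h2 : ψ t * ψ t = 1 := by rw [← map_mul, mul_self_of_two ht, map_one]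
    obtain ⟨g, hg⟩ := Linear.exists_linear hodd ψ.range hinn (by
      rintro _ ⟨a, rfl⟩ _ ⟨b, rfl⟩ _ ⟨c, rfl⟩
      simp only [← map_mul, hψi.eq_iff, map_eq_one_iff ψ hψi]
      exact hr a b c) ⟨t, rfl⟩ h2
    refine ⟨g, hg, Linear.lin_facts (hg ▸ h2) fun h => ?_⟩
    rw [← hg, map_eq_one_iff ψ hψi] at h
    rw [h, orderOf_one] at ht
    omega
  have hfix : ∀ (t a : X) (ha : a ∈ L), a * t = t * a → ψ t (e ⟨a, ha⟩) = e ⟨a, ha⟩ := by
    intro t a ha hc
    show e (MulAut.conjNormal t (e.symm (e ⟨a, ha⟩))) = _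
    rw [e.symm_apply_apply, show MulAut.conjNormal t (⟨a, ha⟩ : L) = ⟨a, ha⟩ from
      Subtype.ext (by rw [MulAut.conjNormal_apply, ← hc, mul_inv_cancel_right])]
  have hord : ∀ (a : X) (ha : a ∈ L), orderOf (e ⟨a, ha⟩) = orderOf a := fun a ha => by
    rw [MulEquiv.orderOf_eq, Subgroup.orderOf_mk]
  refine ⟨inferInstance, ?_, ?_, ?_, ?_⟩
  · intro a b ha hb haL hbL
    obtain ⟨g, hg, -, -⟩ := hlin a ha
    obtain ⟨g', hg', -, -⟩ := hlin b hb
    have key : ∀ (x : X) (g : GL (Fin 2) F), ψ x = conjP g → IsSquare (g : Matrix (Fin 2) (Fin 2) F).det → x ∈ L := by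
      intro x g hx hs
      obtain ⟨m, hm⟩ := Cfsg.Lib.GenDihedral.inner_of_sq_det hs
      have : x = (e.symm m : L) := hψi (by rw [hx, hm, hψL _ (e.symm m).2, Subtype.coe_eta, e.apply_symm_apply])
      exact this ▸ (e.symm m).2
    refine key _ (g * g') (by rw [map_mul, hg, hg', map_mul]) ?_
    rw [Units.val_mul, Matrix.det_mul]
    have hns : ∀ (x : X) (g : GL (Fin 2) F), ψ x = conjP g → x ∉ L → ¬ IsSquare (Matrix.GeneralLinearGroup.det g) := by
      intro x g hx hxL hs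
      obtain ⟨r, hr⟩ := hs
      exact hxL (key x g hx ⟨(r : F), congrArg Units.val hr⟩)
    obtain ⟨r, hr'⟩ := Cfsg.Lib.CyclicNorm.nonsq_mul (hns a g hg haL) (hns b g' hg' hbL)
    exact ⟨(r : F), congrArg Units.val hr'⟩
  · intro t a b ht ha hb hao hbo hat hbt
    obtain ⟨g, hg, hns, -⟩ := hlin t ht
    have h := Linear.comm_of_fixed hodd hns (a := e ⟨a, ha⟩) (b := e ⟨b, hb⟩) (by rwa [hord]) (by rwa [hord])
      (hg ▸ hfix t a ha hat) (hg ▸ hfix t b hb hbt)
    rw [← map_mul, ← map_mul] at h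
    exact congrArg Subtype.val (e.injective h)
  · intro t t' a ht ht' ha hao ha1 hat hat'
    obtain ⟨g, hg, hns, htr⟩ := hlin t ht
    obtain ⟨g', hg', hns', htr'⟩ := hlin t' ht'
    refine hψi ?_
    rw [hg, hg']
    exact Linear.unique_invol hodd hns htr hns' htr' (a := e ⟨a, ha⟩) (by rwa [hord])
      (fun h => ha1 (congrArg Subtype.val ((map_eq_one_iff e e.injective).1 h))) (hg ▸ hfix t a ha hat)
      (hg' ▸ hfix t' a ha hat')
  · intro t ht A hAL hA
    obtain ⟨g, hg, hns, htr⟩ := hlin t ht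
    haveI : IsCyclic ↥((A.subgroupOf L).map e.toMonoidHom) := by
      refine Linear.cyclic_fixed hodd hns htr _ ?_
      rintro _ ⟨⟨a, haL⟩, ha, rfl⟩
      obtain ⟨hao, hat⟩ := hA a ha
      exact ⟨(hord a haL).symm ▸ hao, hg ▸ hfix t a haL hat⟩
    have f : A ≃* ↥((A.subgroupOf L).map e.toMonoidHom) :=
      (subgroupOfEquivOfLe hAL).symm.trans ((A.subgroupOf L).equivMapOfInjective _ e.injective)
    exact isCyclic_of_injective f.toMonoidHom f.injective

namespace L2Like

variable {L : Subgroup X} (K : L2Like L)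
include K

/-- The commutator of an element with an involution lies in `L`. -/
theorem comm_mem {t : X} (ht : orderOf t = 2) (g : X) : g * t * g⁻¹ * t⁻¹ ∈ L := by
  haveI := K.normal
  have hg : orderOf (g * t * g⁻¹) = 2 := by rw [← MulAut.conj_apply, MulEquiv.orderOf_eq, ht]
  by_cases h : t ∈ L
  · exact mul_mem (Subgroup.Normal.conj_mem inferInstance t h g) (inv_mem h)
  · rw [inv_of_two ht]
    refine K.coset _ _ hg ht (fun h' => h ?_) h
    have := Subgroup.Normal.conj_mem inferInstance _ h' g⁻¹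
    rwa [show g⁻¹ * (g * t * g⁻¹) * g⁻¹⁻¹ = t by group] at this

/-- An element of odd order inverted by an involution lies in `L`. -/
theorem mem_of_inverted {u g : X} (hu : orderOf u = 2) (ho : Odd (orderOf g)) (hg : u * g * u⁻¹ = g⁻¹) : g ∈ L := by
  refine Cfsg.Lib.GenDihedral.mem_of_sq ho ?_
  have h := K.comm_mem hu g
  rwa [show g * u * g⁻¹ * u⁻¹ = g * (u * g * u⁻¹)⁻¹ by group, hg, inv_inv] at h

/-- The elements of odd order of `L` centralised by an involution are a subgroup. -/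
theorem mem_tor {t g : X} (ht : orderOf t = 2) :
    g ∈ Cfsg.Lib.FourGW.tor L t ↔ g ∈ L ∧ g * t = t * g ∧ Odd (orderOf g) := by
  refine ⟨fun h => ?_, fun h => subset_closure h⟩
  induction h using closure_induction with
  | mem x hx => exact hx
  | one => exact ⟨one_mem L, by rw [one_mul, mul_one], by rw [orderOf_one]; exact odd_one⟩
  | mul a b _ _ ha hb =>
    refine ⟨mul_mem ha.1 hb.1, by rw [mul_assoc, hb.2.1, ← mul_assoc, ha.2.1, mul_assoc], ?_⟩
    have hc : Commute a b := K.comm t a b ht ha.1 hb.1 ha.2.2 hb.2.2 ha.2.1 hb.2.1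
    exact (Nat.odd_mul.2 ⟨ha.2.2, hb.2.2⟩).of_dvd_nat hc.orderOf_mul_dvd_mul_orderOf
  | inv a _ ha =>
    exact ⟨inv_mem ha.1, ((show Commute a t from ha.2.1).inv_left).eq, by rw [orderOf_inv]; exact ha.2.2⟩

theorem isCyclic_tor {t : X} (ht : orderOf t = 2) : IsCyclic ↥(Cfsg.Lib.FourGW.tor L t) :=
  K.cyc t ht _ (fun _ h => ((K.mem_tor ht).1 h).1) fun _ h => ⟨((K.mem_tor ht).1 h).2.2, ((K.mem_tor ht).1 h).2.1⟩

/-- A torus is inverted by the other involutions commuting with `t`. -/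
theorem tor_inv {t u g : X} (ht : orderOf t = 2) (hu : orderOf u = 2) (hne : u ≠ t) (hc : u * t = t * u)
    (hg : g ∈ Cfsg.Lib.FourGW.tor L t) : u * g * u⁻¹ = g⁻¹ := by
  haveI := K.normal
  obtain ⟨hgL, hgt, hgo⟩ := (K.mem_tor ht).1 hg
  have hug : u * g * u⁻¹ ∈ Cfsg.Lib.FourGW.tor L t := by
    refine (K.mem_tor ht).2 ⟨Subgroup.Normal.conj_mem inferInstance g hgL u, ?_, ?_⟩
    · have := congrArg (fun x => u * x * u⁻¹) hgt
      rw [← conj_mul, ← conj_mul, conj_fix_iff.2 hc.symm] at this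
      exact this
    · rw [← MulAut.conj_apply, MulEquiv.orderOf_eq]; exact hgo
  obtain ⟨huL, hut, huo⟩ := (K.mem_tor ht).1 hug
  have hcm : Commute g (u * g * u⁻¹) := K.comm t _ _ ht hgL huL hgo huo hgt hut
  by_contra hinv
  refine hne (K.uniq u t (g * (u * g * u⁻¹)) hu ht (mul_mem hgL huL)
    ((Nat.odd_mul.2 ⟨hgo, huo⟩).of_dvd_nat hcm.orderOf_mul_dvd_mul_orderOf)
    (fun h => hinv (eq_inv_of_mul_eq_one_right h)) (conj_fix_iff.1 ?_) ?_)
  · rw [← conj_mul, conj_conj u u, mul_self_of_two hu, one_mul, inv_one, mul_one, hcm.eq]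
  · exact (Commute.mul_left hgt hut).eq

/-- An involution centralised by a nontrivial torus element is `t`. -/
theorem ti {t a g : X} (ht : orderOf t = 2) (ha : a ∈ Cfsg.Lib.FourGW.tor L t) (ha1 : a ≠ 1)
    (hc : g * a * g⁻¹ * t = t * (g * a * g⁻¹)) : g * t * g⁻¹ = t := by
  haveI := K.normal
  obtain ⟨haL, hat, hao⟩ := (K.mem_tor ht).1 ha
  refine K.uniq _ t (g * a * g⁻¹) (by rw [← MulAut.conj_apply, MulEquiv.orderOf_eq, ht]) ht
    (Subgroup.Normal.conj_mem inferInstance a haL g) (by rw [← MulAut.conj_apply, MulEquiv.orderOf_eq]; exact hao)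
    (fun e => ha1 (conj_eq_one_iff.1 e)) ?_ hc
  rw [_root_.conj_mul, _root_.conj_mul, hat]

theorem cent_tor_le {t a g : X} (ht : orderOf t = 2) (ha : a ∈ Cfsg.Lib.FourGW.tor L t) (ha1 : a ≠ 1)
    (hc : g * a = a * g) : g * t = t * g := by
  obtain ⟨-, hat, -⟩ := (K.mem_tor ht).1 ha
  exact mul_inv_eq_iff_eq_mul.1 (K.ti ht ha ha1 (by rw [hc, mul_inv_cancel_right, hat]))

/-- An invariant subgroup of odd order is centralised by an involution of the four-group. -/
theorem exists_fix {t u w : X} (F4 : IsFour t u w) {Q : Subgroup X} (ho : Odd (Nat.card Q))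
    (hQ : Vg t u ≤ normalizer (Q : Set X)) :
    ∃ x, (x = t ∨ x = u ∨ x = w) ∧ Q ≤ centralizer ({x} : Set X) := by
  haveI := K.normal
  have htQ : t ∈ normalizer (Q : Set X) := hQ (F4.mem_iff.2 (Or.inr (Or.inl rfl)))
  by_cases h0 : Q ⊓ L = ⊥
  · refine ⟨t, Or.inl rfl, fun g hg => GenDihedral.mem_cent.2 ?_⟩
    have h1 : g * t * g⁻¹ * t⁻¹ ∈ Q ⊓ L := by
      refine Subgroup.mem_inf.2 ⟨?_, K.comm_mem F4.z2 g⟩
      rw [show g * t * g⁻¹ * t⁻¹ = g * (t * g⁻¹ * t⁻¹) by group]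
      exact mul_mem hg ((mem_normalizer_iff.1 htQ _).1 (inv_mem (show g ∈ Q from hg)))
    rw [h0, mem_bot] at h1
    exact mul_inv_eq_iff_eq_mul.1 (mul_inv_eq_one.1 h1)
  · set Y := (Q ⊓ L : Subgroup X) with hY
    have hYo : Odd (Nat.card Y) := odd_of_le ho inf_le_left
    haveI : Group.IsSolvable Y := solvable_of_odd hYo
    haveI : Nontrivial Y := (Subgroup.nontrivial_iff_ne_bot Y).2 h0
    obtain ⟨n, hn⟩ := (Group.isSolvable_def Y).1 ‹_›
    classical
    let k := Nat.find (⟨n, hn⟩ : ∃ n, derivedSeries Y n = ⊥)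
    have hk : derivedSeries Y k = ⊥ := Nat.find_spec (⟨n, hn⟩ : ∃ n, derivedSeries Y n = ⊥)
    obtain ⟨m, hm⟩ : ∃ m, k = m + 1 := by
      refine ⟨k - 1, ?_⟩
      rcases Nat.eq_zero_or_pos k with h | h
      · rw [h, derivedSeries_zero] at hk
        exact absurd hk top_ne_bot
      · omega
    have hm0 : derivedSeries Y m ≠ ⊥ := Nat.find_min (⟨n, hn⟩ : ∃ n, derivedSeries Y n = ⊥) (by omega)
    set A := (derivedSeries Y m).map Y.subtype with hA
    have hAY : A ≤ Y := map_subtype_le _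
    have hAne : A ≠ ⊥ := by
      rwa [Ne, Subgroup.map_eq_bot_iff_of_injective _ Y.subtype_injective]
    have hAc : ∀ a ∈ A, ∀ b ∈ A, a * b = b * a := by
      rintro _ ⟨a, ha, rfl⟩ _ ⟨b, hb, rfl⟩
      have : ⁅a, b⁆ ∈ derivedSeries Y k := by
        rw [hm, derivedSeries_succ]; exact commutator_mem_commutator ha hb
      rw [hk, mem_bot, commutatorElement_eq_one_iff_mul_comm] at this
      exact congrArg Subtype.val this
    have hnA : normalizer (Y : Set X) ≤ normalizer (A : Set X) :=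
      Cfsg.Lib.FourGW.normalizer_le_map_char' Y (derivedSeries Y m)
    have hinv : ∀ {g : X}, g ∈ normalizer (Q : Set X) → g ∈ normalizer (Y : Set X) := fun {g} hg => by
      refine mem_normalizer_iff.2 fun y => ?_
      rw [hY, Subgroup.mem_inf, Subgroup.mem_inf, mem_normalizer_iff.1 hg y,
        mem_normalizer_iff.1 ((normalizer_eq_top L).ge (mem_top g)) y]
    have hVA : Vg t u ≤ normalizer (A : Set X) := fun g hg => hnA (hinv (hQ hg))
    obtain ⟨x, hx, hx2, a, ha, hax, ha1⟩ : ∃ x, (x = t ∨ x = u ∨ x = w) ∧ orderOf x = 2 ∧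
        ∃ a ∈ A, a * x = x * a ∧ a ≠ 1 := by
      obtain ⟨a, haA, hane⟩ := A.bot_or_exists_ne_one.resolve_left hAne
      have hconj : ∀ v : X, orderOf v = 2 → v ∈ Vg t u →
          (∃ b ∈ A, b * v = v * b ∧ b ≠ 1) ∨ v * a * v⁻¹ = a⁻¹ := by
        intro v hv hvV
        have hva := (mem_normalizer_iff.1 (hVA hvV) a).1 haA
        by_cases h1 : a * (v * a * v⁻¹) = 1
        · exact Or.inr (eq_inv_of_mul_eq_one_right h1)
        · refine Or.inl ⟨_, mul_mem haA hva, conj_fix_iff.1 ?_, h1⟩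
          rw [← _root_.conj_mul, conj_conj v v, mul_self_of_two hv, inv_one, one_mul, mul_one, hAc _ hva _ haA]
      rcases hconj t F4.z2 (F4.mem_iff.2 (Or.inr (Or.inl rfl))) with h | h1
      · exact ⟨t, Or.inl rfl, F4.z2, h⟩
      rcases hconj u F4.t2 (F4.mem_iff.2 (Or.inr (Or.inr (Or.inl rfl)))) with h | h2
      · exact ⟨u, Or.inr (Or.inl rfl), F4.t2, h⟩
      refine ⟨w, Or.inr (Or.inr rfl), F4.s2, a, haA, conj_fix_iff.1 ?_, hane⟩
      rw [← F4.zt, ← conj_conj, h2, ← _root_.conj_inv, h1, inv_inv]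
    have haT : a ∈ Cfsg.Lib.FourGW.tor L x :=
      (K.mem_tor hx2).2 ⟨(hAY ha).2, hax, orderOf_odd hYo (hAY ha)⟩
    refine ⟨x, hx, fun g hg => GenDihedral.mem_cent.2 (mul_inv_eq_iff_eq_mul.1 ?_)⟩
    refine K.ti hx2 haT ha1 ?_
    exact K.cent_tor_le hx2 haT ha1 (hAc _ ((mem_normalizer_iff.1 (hnA (hinv (Subgroup.le_normalizer hg))) a).1 ha) a ha)

end L2Like

end Cfsg.Lib.GWD
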