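import Cfsg.Agent.GWDihedral.Tops.Abstract

/-!
The data of a top (`A₄`, `PSL(2, q)` or `A₇`, extended) used by the proper subgroups of a minimal configuration.
-/

set_option autoImplicit false
set_option linter.unusedSectionVars false
set_option linter.style.haveILetI false

namespace Cfsg.Lib.GWD

open Subgroup Cfsg.Lib.GenDihedral

universe u

variable {X : Type u} [Group X] [Finite X]

/-- `τ` generates the odd torus of `t` in `L`; its size against the number of conjugates of `t`, and the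
trivial-intersection property with the inversion by the involutions commuting with `t`, which fail for `A₇` only. -/
structure Torus (L : Subgroup X) (t τ : X) : Prop where
  mem : τ ∈ L
  comm : τ * t = t * τ
  odd : Odd (orderOf τ)
  gen : ∀ a ∈ L, Odd (orderOf a) → a * t = t * a → a ∈ zpowers τ
  bound : (4 * orderOf τ - 1) * (2 * orderOf τ - 1) ≤ (centralizer ({t} : Set X)).index
  full : ∀ T : ℕ, T ∣ orderOf τ → (T = 3 ∧ (centralizer ({t} : Set X)).index = 105 ∧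
      (Nat.card L).factorization 2 = 3) ∨
    (2 ^ (Nat.card L).factorization 2 * T - 1) * (2 ^ (Nat.card L).factorization 2 * T - 2) ≤
      2 * (centralizer ({t} : Set X)).index
  ti : (orderOf τ = 3 ∧ (centralizer ({t} : Set X)).index = 105 ∧
      ∃ v : X, orderOf v = 2 ∧ v ≠ t ∧ v * t = t * v ∧ ∀ a : X, Odd (orderOf a) → a * t = t * a → v * a = a * v) ∨
    ∀ a ∈ zpowers τ, a ≠ 1 → (∀ g : X, g * a = a * g → g * t = t * g) ∧
      ∀ v : X, orderOf v = 2 → v ≠ t → v * t = t * v → v * a * v⁻¹ = a⁻¹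

/-- The properties of the normal subgroup `L` of a top. -/
structure TopData (L : Subgroup X) : Prop where
  normal : L.Normal
  coset : ∀ a b : X, orderOf a = 2 → orderOf b = 2 → a ∉ L → b ∉ L → a * b ∈ L
  four : ∃ a b : X, a ∈ L ∧ b ∈ L ∧ IsFour a b (a * b)
  rot : ∀ a b : X, a ∈ L → b ∈ L → IsFour a b (a * b) → ∃ l ∈ L, l * a * l⁻¹ = b ∧ l * b * l⁻¹ = a * b
  conj : ∀ a b : X, orderOf a = 2 → orderOf b = 2 → a ∈ L → b ∈ L → ∃ l ∈ L, l * a * l⁻¹ = b
  torus : ∀ t : X, orderOf t = 2 → t ∈ L → ∃ τ, Torus L t τ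
  cyc : ∀ t : X, orderOf t = 2 → ∃ τ ∈ L, τ * t = t * τ ∧ Odd (orderOf τ) ∧
    (∀ a ∈ L, Odd (orderOf a) → a * t = t * a → a ∈ zpowers τ) ∧
    ((∀ a ∈ zpowers τ, ∀ v : X, orderOf v = 2 → v ≠ t → v * t = t * v → v * a * v⁻¹ = a⁻¹) ∨
      (orderOf τ = 3 ∧ ¬ 16 ∣ Nat.card X))
  fix : ∀ t u w : X, IsFour t u w → ∀ Q : Subgroup X, Odd (Nat.card Q) → Vg t u ≤ normalizer (Q : Set X) →
    ∃ x, (x = t ∨ x = u ∨ x = w) ∧ Q ≤ centralizer ({x} : Set X)

/-- With one class of involutions in `L`, the number of conjugates can be counted in `L`. -/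
theorem index_cent_eq {L : Subgroup X} [L.Normal] {t : X} (htL : t ∈ L) (ht : orderOf t = 2)
    (hconj : ∀ a b : X, orderOf a = 2 → orderOf b = 2 → a ∈ L → b ∈ L → ∃ l ∈ L, l * a * l⁻¹ = b) :
    (centralizer ({t} : Set X)).index = (centralizer ({(⟨t, htL⟩ : L)} : Set L)).index := by
  have hsup : centralizer ({t} : Set X) ⊔ L = ⊤ := by
    refine eq_top_iff.2 fun g _ => ?_
    obtain ⟨l, hl, h⟩ := hconj t (g * t * g⁻¹) ht (by rw [← MulAut.conj_apply, MulEquiv.orderOf_eq, ht]) htL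
      (Subgroup.Normal.conj_mem inferInstance t htL g)
    have h1 : l⁻¹ * g ∈ centralizer ({t} : Set X) := GenDihedral.mem_cent.2 (by
      calc l⁻¹ * g * t = l⁻¹ * (g * t * g⁻¹) * g := by group
        _ = l⁻¹ * (l * t * l⁻¹) * g := by rw [h]
        _ = t * (l⁻¹ * g) := by group)
    have := mul_mem (mem_sup_right (S := centralizer ({t} : Set X)) hl) (mem_sup_left (T := L) h1)
    rwa [mul_inv_cancel_left] at this
  have e : centralizer ({(⟨t, htL⟩ : L)} : Set L) = (centralizer ({t} : Set X)).subgroupOf L := by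
    ext y
    rw [mem_subgroupOf, GenDihedral.mem_cent, GenDihedral.mem_cent, Subtype.ext_iff]
    rfl
  rw [e]
  show _ = (centralizer ({t} : Set X)).relIndex L
  have h1 : L.relIndex (centralizer ({t} : Set X)) = L.index := by
    rw [← Subgroup.relIndex_sup_right (K := L), hsup, relIndex_top_right]
  have h2 := Subgroup.relIndex_mul_index (H := centralizer ({t} : Set X) ⊓ L) (K := centralizer ({t} : Set X))
    inf_le_left
  have h3 := Subgroup.relIndex_mul_index (H := centralizer ({t} : Set X) ⊓ L) (K := L) inf_le_right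
  rw [inf_relIndex_left, h1, ← h3, inf_relIndex_right, mul_comm] at h2
  exact Nat.eq_of_mul_eq_mul_right (Nat.pos_of_ne_zero index_ne_zero_of_finite) h2

theorem TopData.mem_of_inverted {L : Subgroup X} (D : TopData L) {u g : X} (hu : orderOf u = 2)
    (ho : Odd (orderOf g)) (hg : u * g * u⁻¹ = g⁻¹) : g ∈ L := by
  haveI := D.normal
  refine Cfsg.Lib.GenDihedral.mem_of_sq ho ?_
  have e : g * u * g⁻¹ * u⁻¹ = g * g := by
    calc g * u * g⁻¹ * u⁻¹ = g * (u * g * u⁻¹)⁻¹ := by group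
      _ = g * g := by rw [hg, inv_inv]
  rw [← e]
  have hu' : orderOf (g * u * g⁻¹) = 2 := by rw [← MulAut.conj_apply, MulEquiv.orderOf_eq, hu]
  by_cases h : u ∈ L
  · exact mul_mem (Subgroup.Normal.conj_mem inferInstance u h g) (inv_mem h)
  · rw [inv_of_two hu]
    refine D.coset _ _ hu' hu (fun h' => h ?_) h
    have := Subgroup.Normal.conj_mem inferInstance _ h' g⁻¹
    rwa [show g⁻¹ * (g * u * g⁻¹) * g⁻¹⁻¹ = u by group] at this

/-- An `L2Like` subgroup with one class of involutions, rotations and a count of conjugates is a top. -/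
theorem L2Like.topData {L : Subgroup X} (K : L2Like L)
    (hfour : ∃ a b : X, a ∈ L ∧ b ∈ L ∧ IsFour a b (a * b))
    (hrot : ∀ a b : X, a ∈ L → b ∈ L → IsFour a b (a * b) → ∃ l ∈ L, l * a * l⁻¹ = b ∧ l * b * l⁻¹ = a * b)
    (hconj : ∀ a b : X, orderOf a = 2 → orderOf b = 2 → a ∈ L → b ∈ L → ∃ l ∈ L, l * a * l⁻¹ = b)
    (hbound : ∀ (t : X) (htL : t ∈ L), orderOf t = 2 → ∀ T : ℕ, Odd T →
      T ∣ Nat.card (centralizer ({(⟨t, htL⟩ : L)} : Set L)) →
      (4 * T - 1) * (2 * T - 1) ≤ (centralizer ({(⟨t, htL⟩ : L)} : Set L)).index ∧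
      (2 ^ (Nat.card L).factorization 2 * T - 1) * (2 ^ (Nat.card L).factorization 2 * T - 2) ≤
        2 * (centralizer ({(⟨t, htL⟩ : L)} : Set L)).index) : TopData L := by
  haveI := K.normal
  have hcyc : ∀ t : X, orderOf t = 2 → ∃ τ ∈ Cfsg.Lib.FourGW.tor L t,
      ∀ a ∈ L, Odd (orderOf a) → a * t = t * a → a ∈ zpowers τ := fun t ht => by
    obtain ⟨⟨τ, hτ⟩, hgen⟩ := (K.isCyclic_tor ht).exists_generator
    refine ⟨τ, hτ, fun a haL hao hat => ?_⟩
    obtain ⟨k, hk⟩ := mem_zpowers_iff.1 (hgen ⟨a, (K.mem_tor ht).2 ⟨haL, hat, hao⟩⟩)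
    exact mem_zpowers_iff.2 ⟨k, congrArg Subtype.val hk⟩
  refine ⟨K.normal, K.coset, hfour, hrot, hconj, fun t ht htL => ?_, fun t ht => ?_,
    fun t u w F4 Q => K.exists_fix F4⟩
  swap
  · obtain ⟨τ, hτ, hgen⟩ := hcyc t ht
    obtain ⟨hτL, hτt, hτo⟩ := (K.mem_tor ht).1 hτ
    exact ⟨τ, hτL, hτt, hτo, hgen, Or.inl fun a ha v hv hne hc => K.tor_inv ht hv hne hc (zpowers_le.2 hτ ha)⟩
  obtain ⟨τ, hτ, hgen⟩ := hcyc t ht
  obtain ⟨hτL, hτt, hτo⟩ := (K.mem_tor ht).1 hτ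
  have hdvd : ∀ T : ℕ, T ∣ orderOf τ → T ∣ Nat.card (centralizer ({(⟨t, htL⟩ : L)} : Set L)) := fun T hT => by
    refine hT.trans ?_
    rw [← orderOf_mk (H := L) τ hτL]
    exact Subgroup.orderOf_dvd_natCard _ (GenDihedral.mem_cent.2 (Subtype.ext hτt))
  refine ⟨τ, hτL, hτt, hτo, hgen, ?_, fun T hT => Or.inr ?_, Or.inr fun a ha ha1 => ⟨fun g hg => ?_, fun v hv hne hc => ?_⟩⟩
  · rw [index_cent_eq htL ht hconj]
    exact (hbound t htL ht _ hτo (hdvd _ dvd_rfl)).1
  · rw [index_cent_eq htL ht hconj]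
    exact (hbound t htL ht _ (hτo.of_dvd_nat hT) (hdvd _ hT)).2
  · exact K.cent_tor_le ht (zpowers_le.2 hτ ha) ha1 hg
  · exact K.tor_inv ht hv hne hc (zpowers_le.2 hτ ha)

end Cfsg.Lib.GWD
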