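import Cfsg.Agent.GenDihedral.Red.AutTwo
import Cfsg.Agent.Classical.Misc.PSLFourGroupsMain
import Cfsg.Agent.Known.SLTwo.Tori
import Cfsg.Agent.Known.SLTwo.Unip

/-!
Involutory automorphisms of `PSL(2, q)`, `q` odd, in a group of 2-rank two: they are linear, an element of odd
order is centralised by at most one of them, and the elements of odd order centralised by one form a cyclic group.
-/

set_option autoImplicit false
set_option linter.unusedSectionVars false
set_option linter.style.haveILetI false

namespace Cfsg.Lib.GWD.Linear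

open Subgroup Matrix Cfsg.Lib.Known.AutPSLn Cfsg.Lib.CyclicNorm Cfsg.Lib.GLTwo
open scoped MatrixGroups

variable {F : Type} [Field F] [Fintype F]

local notation "M2" => Matrix (Fin 2) (Fin 2) F
local notation "GL2" => GL (Fin 2) F
local notation "P2" => Matrix.ProjectiveSpecialLinearGroup (Fin 2) F

theorem two_ne (hodd : Odd (Fintype.card F)) : (2 : F) ≠ 0 := Cfsg.Lib.Classical.PSLFour.two_ne hodd

/-- An element fixed by an involutory field automorphism is a square. -/
theorem isSquare_of_fixed (hodd : Odd (Fintype.card F)) {τ : F ≃+* F} (hτ : τ * τ = 1) (hne : τ ≠ 1) {y : F}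
    (hy : τ y = y) : IsSquare y := by
  have hττ : ∀ x, τ (τ x) = x := fun x => congrArg (fun f : F ≃+* F => f x) hτ
  obtain ⟨x₀, hx₀⟩ : ∃ x, τ x ≠ x := by
    by_contra h; push Not at h; exact hne (RingEquiv.ext h)
  set e := x₀ - τ x₀ with he
  have he0 : e ≠ 0 := sub_ne_zero.2 hx₀.symm
  have hτe : τ e = -e := by rw [he, map_sub, hττ, neg_sub]
  classical
  let K : Subfield F := (τ.toRingHom).eqLocusField (RingHom.id F)
  haveI : Fintype K := Fintype.ofFinite K
  have hK : ∀ x : F, x ∈ K ↔ τ x = x := fun x => Iff.rfl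
  let w : K := ⟨e * e, (hK _).2 (by rw [map_mul, hτe]; ring)⟩
  let y' : K := ⟨y, (hK _).2 hy⟩
  by_cases hy0 : y = 0
  · exact ⟨0, by rw [hy0, mul_zero]⟩
  by_cases h1 : IsSquare (Units.mk0 y' (fun h => hy0 (congrArg Subtype.val h)))
  · obtain ⟨s, hs⟩ := h1
    exact ⟨((s : K) : F), congrArg Subtype.val (congrArg Units.val hs)⟩
  have hw0 : w ≠ 0 := fun h => mul_ne_zero he0 he0 (congrArg Subtype.val h)
  have h2 : ¬ IsSquare (Units.mk0 w hw0) := by
    rintro ⟨s, hs⟩
    have hs' : e * e = ((s : K) : F) * ((s : K) : F) := congrArg Subtype.val (congrArg Units.val hs)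
    have hfix : τ ((s : K) : F) = ((s : K) : F) := (hK _).1 (s : K).2
    have hee : τ e = e := by
      rcases mul_self_eq_mul_self_iff.1 hs' with h | h <;> rw [h]
      · exact hfix
      · rw [map_neg, hfix]
    have h4 : (2 : F) * e = 0 := by linear_combination hτe - hee
    exact mul_ne_zero (two_ne hodd) he0 h4
  obtain ⟨s, hs⟩ := nonsq_mul h1 h2
  refine ⟨((s : K) : F) / e, ?_⟩
  have hs' : y * (e * e) = ((s : K) : F) * ((s : K) : F) := congrArg Subtype.val (congrArg Units.val hs)
  field_simp
  linear_combination hs'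

/-- An involution of a group of automorphisms of 2-rank two containing the inner ones is linear. -/
theorem exists_linear (hodd : Odd (Fintype.card F)) (A : Subgroup (MulAut P2))
    (hinn : ∀ x : P2, MulAut.conj x ∈ A)
    (hrank : ∀ a ∈ A, ∀ b ∈ A, ∀ c ∈ A, a * a = 1 → b * b = 1 → c * c = 1 →
      a * b = b * a → a * c = c * a → b * c = c * b →
      a = 1 ∨ b = 1 ∨ a = b ∨ c = 1 ∨ c = a ∨ c = b ∨ c = a * b)
    {β : MulAut P2} (hβ : β ∈ A) (hβ2 : β * β = 1) : ∃ g : GL2, β = conjP g := by
  classical
  obtain ⟨g, τ, hdec⟩ := Cfsg.Lib.GenDihedral.decomp_two β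
  by_cases hne : τ = 1
  · exact ⟨g, by rw [hdec, hne, map_one, mul_one]⟩
  exfalso
  have hττ : τ * τ = 1 := Cfsg.Lib.GenDihedral.inner_of_sq (g := g) (m := 1)
    (by rw [← hdec, map_one, hβ2])
  have hτ' : ∀ x, τ (τ x) = x := fun x => congrArg (fun f : F ≃+* F => f x) hττ
  obtain ⟨⟨i, hi⟩, -⟩ := Cfsg.Lib.GenDihedral.field_facts hodd hττ hne
  -- the determinant is a square
  have hsc : (conjP (g * glMap τ g) : MulAut P2) = conjP (1 : GL2) := by
    have h := hβ2
    rw [hdec, show (conjP g : MulAut P2) * fieldP τ * (conjP g * fieldP τ) =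
      conjP g * (fieldP τ * conjP g) * fieldP τ by group, fieldP_mul_conjP, ← mul_assoc, ← map_mul, mul_assoc,
      ← map_mul, hττ, map_one, mul_one] at h
    rw [h, map_one]
  obtain ⟨l, hl⟩ := conjP_eq_iff hsc
  have hl' : (g : M2) * (g : M2).map τ = l • (1 : M2) := by
    rw [← coe_glMap, ← Units.val_mul]; exact hl
  have hmm : ((g : M2).map τ).map τ = (g : M2) := by ext i j; exact hτ' _
  have hlτ : τ l = l := by
    have h1 : (g : M2).map τ * (g : M2) = τ l • (1 : M2) := by
      have h := congrArg (fun M : M2 => M.map τ) hl'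
      simp only [Matrix.map_mul, hmm] at h
      rw [h]
      ext a b
      simp [Matrix.one_apply, apply_ite τ]
    have h2 : (τ l) • (g : M2) = l • (g : M2) := by
      calc τ l • (g : M2) = (g : M2) * ((g : M2).map τ * (g : M2)) := by rw [h1, mul_smul_comm, mul_one]
        _ = l • (g : M2) := by rw [← mul_assoc, hl', smul_mul_assoc, one_mul]
    by_contra hc
    have h3 : (τ l - l) • (g : M2) = 0 := by rw [sub_smul, h2, sub_self]
    refine (GeneralLinearGroup.det g).ne_zero ?_
    show (g : M2).det = 0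
    rw [(smul_eq_zero.1 h3).resolve_left (sub_ne_zero.2 hc)]
    simp
  have hsq : IsSquare (g : M2).det := by
    set d := (g : M2).det with hd
    have hd0 : d ≠ 0 := (GeneralLinearGroup.det g).ne_zero
    have hdd : d * τ d = l * l := by
      have h := congrArg Matrix.det hl'
      rw [det_mul] at h
      rw [show τ d = ((g : M2).map τ).det from RingHom.map_det τ.toRingHom (g : M2), h, det_smul, det_one]
      simp [pow_two]
    have hl0 : l ≠ 0 := fun h => by
      rw [h, mul_zero] at hdd
      exact mul_ne_zero hd0 (fun e => hd0 (by rw [← hτ' d, e, map_zero])) hdd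
    -- Hilbert 90 for `d / l`
    obtain ⟨y, hy0, hy⟩ : ∃ y, y ≠ 0 ∧ d * τ y = l * y := by
      have key : ∀ x, d * τ (l * x + d * τ x) = l * (l * x + d * τ x) := fun x => by
        rw [map_add, map_mul, map_mul, hτ', hlτ]
        linear_combination x * hdd
      by_contra hcon
      push Not at hcon
      have h1 : ∀ x, l * x + d * τ x = 0 := fun x => by
        by_contra hx
        exact hcon _ hx (key x)
      have hd1 : d = -l := by have := h1 1; rw [map_one] at this; linear_combination this
      refine hne (RingEquiv.ext fun x => ?_)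
      show τ x = x
      have := h1 x
      rw [hd1] at this
      exact (mul_left_cancel₀ hl0 (by linear_combination this)).symm
    have hτy0 : τ y ≠ 0 := fun e => hy0 (by rw [← hτ' y, e, map_zero])
    obtain ⟨s, hs⟩ := isSquare_of_fixed hodd hττ hne hlτ
    obtain ⟨r, hr⟩ := isSquare_of_fixed hodd hττ hne (y := y * τ y) (by rw [map_mul, hτ', mul_comm])
    refine ⟨s * y / r, ?_⟩
    have hr0 : r ≠ 0 := fun e => mul_ne_zero hy0 hτy0 (by rw [hr, e, mul_zero])
    field_simp
    linear_combination y * hy + y * y * hs - d * hr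
  obtain ⟨m, hm⟩ := Cfsg.Lib.GenDihedral.inner_of_sq_det hsq
  -- three independent commuting involutions
  set φ : MulAut P2 := fieldP τ with hφ
  have hφA : φ ∈ A := by
    rw [hdec, hm] at hβ
    exact (Subgroup.mul_mem_cancel_left A (hinn m)).1 hβ
  have hi0 : i ≠ 0 := fun h => by rw [h, mul_zero] at hi; exact neg_ne_zero.2 one_ne_zero hi
  let D : SL(2, F) := ⟨!![i, 0; 0, -i], by rw [det_fin_two_of]; linear_combination hi⟩
  let J : SL(2, F) := Cfsg.Lib.Classical.PSLFour.J
  have h2 := two_ne hodd
  have hJD : J * D = -(D * J) := by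
    refine Subtype.ext ?_
    show !![(0 : F), 1; -1, 0] * !![i, 0; 0, -i] = -(!![i, 0; 0, -i] * !![(0 : F), 1; -1, 0])
    ext a b
    fin_cases a <;> fin_cases b <;> simp [Matrix.mul_apply, Fin.sum_univ_two]
  have hDD : D * D = -1 := (Cfsg.Lib.Classical.PSLFour.sq_iff D).2 rfl
  have hfixJ : fieldSL τ J = J := by
    refine Subtype.ext ?_
    rw [coe_fieldSL]
    ext a b
    fin_cases a <;> fin_cases b <;> simp [J, Cfsg.Lib.Classical.PSLFour.J, Cfsg.Lib.Classical.PSLFour.sl]
  have hfixD : fieldSL τ D = D ∨ fieldSL τ D = -D := by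
    have hh : τ i = i ∨ τ i = -i := mul_self_eq_mul_self_iff.1 (by rw [← map_mul, ← hi, map_neg, map_one])
    rcases hh with h | h
    · left
      refine Subtype.ext ?_
      rw [coe_fieldSL]
      ext a b
      fin_cases a <;> fin_cases b <;> simp [D, h]
    · right
      refine Subtype.ext ?_
      rw [coe_fieldSL]
      show (!![i, 0; 0, -i] : M2).map τ = -!![i, 0; 0, -i]
      ext a b
      fin_cases a <;> fin_cases b <;> simp [h]
  have hPJ : fieldP τ (π J) = π J := by rw [fieldP_apply, hfixJ]
  have hPD : fieldP τ (π D) = π D := by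
    rw [fieldP_apply]
    rcases hfixD with h | h <;> rw [h]
    exact Cfsg.Lib.Classical.PSLFour.π_neg D
  have hcomm : ∀ x : P2, φ x = x → φ * MulAut.conj x = MulAut.conj x * φ := fun x hx => MulEquiv.ext fun y => by
    simp [MulAut.mul_apply, hx]
  have hsq' : ∀ M : SL(2, F), M * M = -1 → (MulAut.conj (π M) : MulAut P2) * MulAut.conj (π M) = 1 := fun M h => by
    rw [← map_mul, ← map_mul, h, Cfsg.Lib.Classical.PSLFour.π_neg, map_one, map_one]
  have hφ2 : φ * φ = 1 := by rw [hφ, ← map_mul, hττ, map_one]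
  have hJDc : (MulAut.conj (π J) : MulAut P2) * MulAut.conj (π D) = MulAut.conj (π D) * MulAut.conj (π J) := by
    rw [← map_mul, ← map_mul, ← map_mul, ← map_mul, hJD, Cfsg.Lib.Classical.PSLFour.π_neg]
  have hnin : ∀ x : P2, φ ≠ MulAut.conj x := by
    intro x hx
    obtain ⟨M, rfl⟩ := QuotientGroup.mk'_surjective _ x
    refine hne (conjP_fieldP_eq_one le_rfl (A := (SpecialLinearGroup.toGL M)⁻¹) (σ := τ) ?_).2
    rw [map_inv, conjP_toGL, ← hφ, hx, inv_mul_cancel]
  have hinj : ∀ M : SL(2, F), (MulAut.conj (π M) : MulAut P2) = 1 → M = 1 ∨ M = -1 := fun M h => by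
    rw [← conjP_toGL, ← map_one (conjP : GL2 →* MulAut P2)] at h
    obtain ⟨c, hc⟩ := conjP_eq_iff h
    by_contra hpm
    push Not at hpm
    refine (nonScalar_of_ne hpm.1 hpm.2) ?_
    have hc' : (M : M2) = c • (1 : M2) := hc
    simp [hc']
  have hJne : (MulAut.conj (π J) : MulAut P2) ≠ 1 := fun h => by
    rcases hinj J h with e | e <;>
      · have := congrArg (fun z : SL(2, F) => z.1 0 1) e
        simp [J, Cfsg.Lib.Classical.PSLFour.J, Cfsg.Lib.Classical.PSLFour.sl] at this
  have hDne : (MulAut.conj (π D) : MulAut P2) ≠ 1 := fun h => by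
    rcases hinj D h with e | e <;>
      · have e1 := congrArg (fun z : SL(2, F) => z.1 0 0) e
        have e2 := congrArg (fun z : SL(2, F) => z.1 1 1) e
        simp [D] at e1 e2
        first
          | exact h2 (by linear_combination -e1 - e2)
          | exact h2 (by linear_combination e1 + e2)
          | exact h2 (by linear_combination e1 - e2)
  have hne' : (MulAut.conj (π J) : MulAut P2) ≠ MulAut.conj (π D) := fun h => by
    have h' : (MulAut.conj (π (J⁻¹ * D)) : MulAut P2) = 1 := by
      rw [map_mul, map_inv, map_mul, map_inv, h, inv_mul_cancel]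
    rcases hinj _ h' with e | e <;> rw [inv_mul_eq_iff_eq_mul] at e <;> simp only [mul_one, mul_neg] at e <;>
      · have := congrArg (fun z : SL(2, F) => z.1 0 0) e
        try simp only [Cfsg.Lib.Classical.PSLFour.val_neg] at this
        simp [D, J, Cfsg.Lib.Classical.PSLFour.J, Cfsg.Lib.Classical.PSLFour.sl] at this
        exact hi0 this
  have hJ2 := hsq' J (Cfsg.Lib.Classical.PSLFour.J_sq)
  rcases hrank _ (hinn (π J)) _ (hinn (π D)) φ hφA hJ2 (hsq' D hDD) hφ2 hJDc (hcomm _ hPJ).symm
    (hcomm _ hPD).symm with h | h | h | h | h | h | h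
  · exact hJne h
  · exact hDne h
  · exact hne' h
  · exact hnin 1 (by rw [h, map_one])
  · exact hnin _ h
  · exact hnin _ h
  · exact hnin (π J * π D) (by rw [h, map_mul])

/-- A linear involution has trace zero and is not scalar. -/
theorem lin_facts {g : GL2} (h2 : (conjP g : MulAut P2) * conjP g = 1)
    (h1 : (conjP g : MulAut P2) ≠ 1) : NonScalar (g : M2) ∧ (g : M2).trace = 0 := by
  have hns : NonScalar (g : M2) := by
    by_contra hs
    refine h1 (conjP_scalar (GeneralLinearGroup.mem_center_iff_val_mem_range_scalar.2 ⟨(g : M2) 0 0, ?_⟩))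
    rw [scalar_apply, ← smul_one_eq_diagonal]
    exact (eq_smul_one hs).symm
  refine ⟨hns, ?_⟩
  rw [← map_mul, ← map_one (conjP : GL2 →* MulAut P2)] at h2
  obtain ⟨c, hc⟩ := conjP_eq_iff h2
  rw [Units.val_mul] at hc
  by_contra htr
  refine hns ?_
  have e01 := congrFun (congrFun hc 0) 1
  have e10 := congrFun (congrFun hc 1) 0
  have e00 := congrFun (congrFun hc 0) 0
  have e11 := congrFun (congrFun hc 1) 1
  simp [Matrix.mul_apply, Fin.sum_univ_two] at e00 e01 e10 e11
  rw [trace_fin_two] at htr
  refine ⟨mul_left_cancel₀ htr (by linear_combination e01), mul_left_cancel₀ htr (by linear_combination e10),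
    mul_left_cancel₀ htr (by linear_combination e00 - e11)⟩

/-- An element of odd order centralised by a linear involution lifts to a matrix commuting with it. -/
theorem lift_comm (hodd : Odd (Fintype.card F)) {g : GL2}
    {m : SL(2, F)} (ho : Odd (orderOf (π m))) (hfix : conjP g (π m) = π m) :
    (m : M2) * (g : M2) = (g : M2) * (m : M2) := by
  rw [conjP_apply] at hfix
  rcases Cfsg.Lib.Classical.PSLFour.π_eq_iff.1 hfix with h | h
  · have h' := congrArg (fun z : SL(2, F) => (z : M2) * (g : M2)) h
    simp only [coe_conjSL] at h'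
    rw [h', mul_assoc, g.inv_mul, mul_one]
  · exfalso
    have htr : (m : M2).trace = 0 := by
      have h' := congrArg (fun z : SL(2, F) => (z : M2).trace) h
      simp only [SpecialLinearGroup.coe_neg, trace_neg, coe_conjSL] at h'
      rw [trace_mul_cycle, g.inv_mul, one_mul] at h'
      exact (mul_eq_zero.1 (show (2 : F) * (m : M2).trace = 0 by linear_combination h')).resolve_left (two_ne hodd)
    have hm2 : m * m = -1 := (Cfsg.Lib.Classical.PSLFour.sq_iff m).2 (by
      rw [trace_fin_two] at htr; exact eq_neg_of_add_eq_zero_right htr)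
    have h1 : π m = 1 := by
      refine Cfsg.Lib.GenDihedral.eq_one_of_sq_of_odd ?_ ho
      rw [← map_mul, hm2, Cfsg.Lib.Classical.PSLFour.π_neg, map_one]
    rcases Cfsg.Lib.Classical.PSLFour.π_one_iff.1 h1 with e | e <;> rw [e] at hm2 <;>
      exact Cfsg.Lib.Classical.PSLFour.neg_one_ne hodd (by simpa using hm2.symm)

/-- Two elements of odd order centralised by a linear involution commute. -/
theorem comm_of_fixed (hodd : Odd (Fintype.card F)) {g : GL2} (hg : NonScalar (g : M2))
    {a b : P2} (ha : Odd (orderOf a)) (hb : Odd (orderOf b)) (hga : conjP g a = a) (hgb : conjP g b = b) :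
    a * b = b * a := by
  obtain ⟨m, rfl⟩ := QuotientGroup.mk'_surjective _ a
  obtain ⟨k, rfl⟩ := QuotientGroup.mk'_surjective _ b
  obtain ⟨x, y, hm⟩ := exists_combo hg (lift_comm hodd ha hga)
  obtain ⟨z, w, hk⟩ := exists_combo hg (lift_comm hodd hb hgb)
  rw [← map_mul, ← map_mul]
  congr 1
  refine Subtype.ext ?_
  show (m : M2) * k = (k : M2) * m
  rw [hm, hk]
  simp [combo, mul_add, add_mul, smul_smul, mul_comm]
  abel

/-- An element of odd order other than one is centralised by at most one linear involution. -/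
theorem unique_invol (hodd : Odd (Fintype.card F)) {g g' : GL2}
    (hg : NonScalar (g : M2)) (htg : (g : M2).trace = 0) (hg' : NonScalar (g' : M2)) (htg' : (g' : M2).trace = 0)
    {a : P2} (ha : Odd (orderOf a)) (ha1 : a ≠ 1) (hga : conjP g a = a) (hga' : conjP g' a = a) :
    (conjP g : MulAut P2) = conjP g' := by
  obtain ⟨m, rfl⟩ := QuotientGroup.mk'_surjective _ a
  have hm : NonScalar (m : M2) := nonScalar_of_ne (fun e => ha1 (by rw [e, map_one]))
    (fun e => ha1 (Cfsg.Lib.Classical.PSLFour.π_one_iff.2 (Or.inr e)))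
  obtain ⟨x, y, hx⟩ := exists_combo hm (lift_comm hodd ha hga).symm
  obtain ⟨z, w, hz⟩ := exists_combo hm (lift_comm hodd ha hga').symm
  have hy : y ≠ 0 := fun e => hg (by rw [hx, e]; simp [combo])
  rw [hx, trace_combo] at htg
  rw [hz, trace_combo] at htg'
  have e2 : (g' : M2) = (w / y) • (g : M2) := by
    have h2 := two_ne hodd
    have hx' : z = w / y * x := by
      field_simp
      refine mul_left_cancel₀ h2 ?_
      linear_combination y * htg' - w * htg
    rw [hz, hx, hx', combo, combo, smul_add, smul_smul, smul_smul, div_mul_cancel₀ _ hy]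
  have hwy : w / y ≠ 0 := fun e => hg' (by rw [e2, e]; simp)
  have e3 : g' = dG (Units.mk0 _ hwy) (Units.mk0 _ hwy) * g := Units.ext (by
    rw [Units.val_mul, e2, coe_dG]
    ext i j
    fin_cases i <;> fin_cases j <;> simp [Matrix.mul_apply, Fin.sum_univ_two])
  rw [e3, map_mul, conjP_scalar (scal_mem _), one_mul]

/-- The elements of odd order centralised by a linear involution form a cyclic group. -/
theorem cyclic_fixed (hodd : Odd (Fintype.card F)) {g : GL2} (hg : NonScalar (g : M2))
    (htg : (g : M2).trace = 0) (A : Subgroup P2) (hA : ∀ a ∈ A, Odd (orderOf a) ∧ conjP g a = a) :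
    IsCyclic A := by
  obtain ⟨p, hp⟩ := CharP.exists F
  haveI : Fact p.Prime := ⟨CharP.char_is_prime F p⟩
  set K : Subgroup SL(2, F) :=
    (Subgroup.centralizer ({g} : Set GL2)).comap SpecialLinearGroup.toGL with hK
  have hKm : ∀ x : SL(2, F), x ∈ K ↔ (x : M2) * (g : M2) = (g : M2) * (x : M2) := fun x => by
    rw [hK, Subgroup.mem_comap, mem_centralizer_singleton_iff, Units.ext_iff]
    rfl
  haveI : IsCyclic K := by
    refine Cfsg.Lib.Classical.SLTwoTori.isCyclic_of_comm p K (fun a ha b hb => ?_) fun a ha => ?_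
    · obtain ⟨x, y, hx⟩ := exists_combo hg ((hKm a).1 ha)
      obtain ⟨z, w, hz⟩ := exists_combo hg ((hKm b).1 hb)
      refine Subtype.ext ?_
      show (a : M2) * b = (b : M2) * a
      rw [hx, hz]
      simp [combo, mul_add, add_mul, smul_smul, mul_comm]
      abel
    · rw [Nat.coprime_comm, (Fact.out : p.Prime).coprime_iff_not_dvd]
      intro hd
      set u := a ^ (orderOf a / p) with hu
      have huo : orderOf u = p := by
        rw [hu, orderOf_pow, Nat.gcd_eq_right (Nat.div_dvd_of_dvd hd), Nat.div_div_self hd (orderOf_pos a).ne']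
      obtain ⟨hun, hut⟩ := (orderOf_eq_char_iff p u).1 huo
      obtain ⟨x, y, hx⟩ := exists_combo hun ((hKm u).1 (pow_mem ha _)).symm
      refine (GeneralLinearGroup.det g).ne_zero ?_
      show (g : M2).det = 0
      rw [hx, trace_combo, hut] at htg
      have hx0 : x = -y := mul_left_cancel₀ (two_ne hodd) (by linear_combination htg)
      have hdu : (u : M2).det = 1 := u.2
      rw [hx, det_combo, hut, hdu, hx0]
      ring
  have hle : A ≤ K.map (π : SL(2, F) →* P2) := fun a ha => by
    obtain ⟨ho, hf⟩ := hA a ha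
    obtain ⟨m, rfl⟩ := QuotientGroup.mk'_surjective _ a
    exact ⟨m, (hKm m).2 (lift_comm hodd ho hf), rfl⟩
  haveI : IsCyclic ↥(K.map (π : SL(2, F) →* P2)) :=
    isCyclic_of_surjective _ (MonoidHom.subgroupMap_surjective (π : SL(2, F) →* P2) K)
  exact isCyclic_of_le hle

end Cfsg.Lib.GWD.Linear
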